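import Mathlib
import Cfsg.Prelude.Def_GeometricClasses
import Cfsg.Agent.Classical.Orth.SingPairMax
import Cfsg.Agent.Classical.Misc.RepCount

/-! Orthogonal decompositions into isometric members of dimension two or at least four, any characteristic: set-up. -/

set_option autoImplicit false
set_option linter.unusedSimpArgs false
set_option linter.unusedSectionVars false
set_option linter.style.haveILetI false
set_option linter.flexible false

namespace Cfsg.Lib.Classical.DecompGen

open Matrix Cfsg.Lib.Classical.Refl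
open scoped commutatorElement

universe u

variable {F : Type u} [Field F] [Fintype F] {ι : Type} [Fintype ι] [DecidableEq ι]

/-- An orthogonal decomposition into isometric members, away from the exceptions. -/
structure GSplit (Q : QuadraticForm F (ι → F)) {t : ℕ} (k : ℕ) (D : Fin t → Submodule F (ι → F)) : Prop where
  nondeg : (QuadraticMap.polarBilin Q).Nondegenerate
  decomp : Cfsg.Geo.IsOrthogonalMDecomposition (⇑Q) k D
  dim : k = 2 ∨ 4 ≤ k
  two_le : 2 ≤ t
  big : 9 ≤ Fintype.card ι
  two_three : k = 2 → Fintype.card F ≠ 3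
  two_plus : k = 2 → ∀ i, ∀ s ∈ D i, s ≠ 0 → Q s = 0 → 7 ≤ Fintype.card F
  four_two : k = 4 → Fintype.card F = 2 → ∀ i, ∀ a ∈ D i, ∀ b ∈ D i, Q a = 0 → Q b = 0 →
    QuadraticMap.polar (⇑Q) a b = 0 → Module.finrank F (Submodule.span F ({a, b} : Set (ι → F))) < 2

variable (Q : QuadraticForm F (ι → F))

theorem mv_mul (g h : Cfsg.isometryGroup F (⇑Q)) (x : ι → F) :
    mat Q (g * h) *ᵥ x = mat Q g *ᵥ (mat Q h *ᵥ x) := mulVec_mul Q g h x

theorem mv_one (x : ι → F) : mat Q 1 *ᵥ x = x := Matrix.one_mulVec x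

theorem mv_inv (g : Cfsg.isometryGroup F (⇑Q)) (x : ι → F) : mat Q g *ᵥ (mat Q g⁻¹ *ᵥ x) = x := by
  rw [← mv_mul, mul_inv_cancel, mv_one]

theorem mv_refl (v : ι → F) (hv : Q v ≠ 0) (x : ι → F) :
    mat Q (refl Q v hv) *ᵥ x = x - ((Q v)⁻¹ * QuadraticMap.polar (⇑Q) v x) • v := mulVec_eq Q v x

theorem mv_refl_fix (v : ι → F) (hv : Q v ≠ 0) {x : ι → F} (h : QuadraticMap.polar (⇑Q) v x = 0) :
    mat Q (refl Q v hv) *ᵥ x = x := fix Q v x h

theorem Q_act (g : Cfsg.isometryGroup F (⇑Q)) (x : ι → F) : Q (mat Q g *ᵥ x) = Q x := (mem_iff Q).mp g.2 x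

theorem mv_injective (g : Cfsg.isometryGroup F (⇑Q)) : Function.Injective (fun x => mat Q g *ᵥ x) :=
  Function.LeftInverse.injective (mulVec_inv_cancel Q g)

theorem perp_self {x : ι → F} (h : Q x = 0) : QuadraticMap.polar (⇑Q) x x = 0 := by
  rw [QuadraticMap.polar_self, h, smul_zero]

variable {Q}

/-- In a non-degenerate subspace, a vector seen by a given one. -/
theorem exists_nonsingular {W : Submodule F (ι → F)}
    (hW : Cfsg.Geo.IsNondegenerateOn (QuadraticMap.polar (⇑Q)) W) (h : W ≠ ⊥) : ∃ v ∈ W, Q v ≠ 0 := by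
  by_contra hc
  push Not at hc
  obtain ⟨a, ha, ha0⟩ := W.exists_mem_ne_zero_of_ne_bot h
  obtain ⟨-, y, hy, hay⟩ := hW a ha ha0
  exact hay (HypQuad.polar_zero_of_singular Q hc ha hy)

theorem exists_notMem_span {W : Submodule F (ι → F)} (h : 2 ≤ Module.finrank F W) (v : ι → F) :
    ∃ a ∈ W, a ∉ Submodule.span F {v} := by
  by_contra hc
  push Not at hc
  have h1 := Submodule.finrank_mono (show W ≤ Submodule.span F {v} from hc)
  have h2 : Module.finrank F (Submodule.span F (({v} : Finset (ι → F)) : Set (ι → F))) ≤ 1 :=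
    (finrank_span_finset_le_card _).trans (by simp)
  rw [Finset.coe_singleton] at h2
  omega

theorem orth_nonsingular {W : Submodule F (ι → F)}
    (hW : Cfsg.Geo.IsNondegenerateOn (QuadraticMap.polar (⇑Q)) W) (h : 2 ≤ Module.finrank F W) {v : ι → F}
    (hv : v ∈ W) (hvv : QuadraticMap.polar (⇑Q) v v ≠ 0) :
    ∃ w ∈ W, QuadraticMap.polar (⇑Q) v w = 0 ∧ Q w ≠ 0 := by
  obtain ⟨a, ha, hav⟩ := exists_notMem_span h v
  let pr : (ι → F) → (ι → F) := fun a => a + (-QuadraticMap.polar (⇑Q) v a / QuadraticMap.polar (⇑Q) v v) • v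
  have hpr : ∀ a ∈ W, pr a ∈ W ∧ QuadraticMap.polar (⇑Q) v (pr a) = 0 := fun a ha => ⟨W.add_mem ha (W.smul_mem _ hv), by
    simp only [pr, QuadraticMap.polar_add_right, QuadraticMap.polar_smul_right, smul_eq_mul]
    rw [div_mul_cancel₀ _ hvv, add_neg_cancel]⟩
  by_cases hQ : Q (pr a) = 0
  · have hw0 : pr a ≠ 0 := fun e => hav (by
      rw [show a = (-(-QuadraticMap.polar (⇑Q) v a / QuadraticMap.polar (⇑Q) v v)) • v by
        rw [neg_smul]; exact eq_neg_of_add_eq_zero_left e]
      exact Submodule.smul_mem _ _ (Submodule.mem_span_singleton_self v))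
    obtain ⟨-, y, hy, hwy⟩ := hW _ (hpr a ha).1 hw0
    by_cases hQy : Q (pr y) = 0
    · refine ⟨pr a + pr y, W.add_mem (hpr a ha).1 (hpr y hy).1, ?_, ?_⟩
      · rw [QuadraticMap.polar_add_right, (hpr a ha).2, (hpr y hy).2, add_zero]
      · rw [QuadraticMap.map_add (f := Q), hQ, hQy, zero_add, zero_add]
        show QuadraticMap.polar (⇑Q) (pr a) (y + (-QuadraticMap.polar (⇑Q) v y / QuadraticMap.polar (⇑Q) v v) • v) ≠ 0
        rw [QuadraticMap.polar_add_right, QuadraticMap.polar_smul_right, QuadraticMap.polar_comm (⇑Q) (pr a) v,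
          (hpr a ha).2, smul_zero, add_zero]
        exact hwy
    · exact ⟨pr y, (hpr y hy).1, (hpr y hy).2, hQy⟩
  · exact ⟨pr a, (hpr a ha).1, (hpr a ha).2, hQ⟩

theorem value_in {W : Submodule F (ι → F)} (hW : Cfsg.Geo.IsNondegenerateOn (QuadraticMap.polar (⇑Q)) W)
    (h : 2 ≤ Module.finrank F W) (μ : F) : ∃ v ∈ W, Q v = μ := by
  obtain ⟨v, hv, hQv⟩ := exists_nonsingular hW (fun e => by rw [e, finrank_bot] at h; omega)
  by_cases h2 : (2 : F) = 0
  · obtain ⟨s, hs⟩ := exists_sqrt_two h2 (μ / Q v)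
    exact ⟨s • v, W.smul_mem _ hv, by rw [QuadraticMap.map_smul, smul_eq_mul, hs, div_mul_cancel₀ _ hQv]⟩
  · obtain ⟨w, hw, hvw, hQw⟩ := orth_nonsingular hW h hv (by rw [polar_self_two]; exact mul_ne_zero h2 hQv)
    obtain ⟨a, b, hab⟩ := binary_universal h2 hQv hQw μ
    refine ⟨a • v + b • w, W.add_mem (W.smul_mem _ hv) (W.smul_mem _ hw), ?_⟩
    rw [val_lin Q hvw, ← hab]
    try ring

/-- The complement of a non-degenerate subspace inside a non-degenerate one. -/
theorem split_nondeg (hQ : (QuadraticMap.polarBilin Q).Nondegenerate) {W S : Submodule F (ι → F)} (hS : S ≤ W)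
    (hW : Cfsg.Geo.IsNondegenerateOn (QuadraticMap.polar (⇑Q)) W)
    (hS' : Cfsg.Geo.IsNondegenerateOn (QuadraticMap.polar (⇑Q)) S) :
    Cfsg.Geo.IsNondegenerateOn (QuadraticMap.polar (⇑Q)) (W ⊓ HypQuad.perp Q S) ∧
      Module.finrank F ↥(W ⊓ HypQuad.perp Q S) + Module.finrank F S = Module.finrank F W := by
  have hc := (nondeg_perp Q hQ hS').1
  have key : ∀ e ∈ W ⊓ HypQuad.perp Q S, e ≠ 0 → ∃ y ∈ W ⊓ HypQuad.perp Q S, QuadraticMap.polar (⇑Q) e y ≠ 0 := by
    intro e he he0
    obtain ⟨-, y, hy, hey⟩ := hW e he.1 he0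
    obtain ⟨s, hs, r, hr, rfl⟩ := Submodule.mem_sup.mp (hc.sup_eq_top ▸ Submodule.mem_top : y ∈ S ⊔ HypQuad.perp Q S)
    refine ⟨r, ⟨by simpa using W.sub_mem hy (hS hs), hr⟩, ?_⟩
    rwa [QuadraticMap.polar_add_right, QuadraticMap.polar_comm (⇑Q) e s, (HypQuad.mem_perp Q).mp he.2 s hs,
      zero_add] at hey
  refine ⟨fun e he he0 => ?_, ?_⟩
  · obtain ⟨y, hy, hey⟩ := key e he he0
    exact ⟨⟨y, hy, by rwa [QuadraticMap.polar_comm]⟩, ⟨y, hy, hey⟩⟩
  · have h := Submodule.finrank_sup_add_finrank_inf_eq (W ⊓ HypQuad.perp Q S) S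
    have e1 : W ⊓ HypQuad.perp Q S ⊓ S = ⊥ := le_bot_iff.mp (fun z hz => hc.inf_eq_bot ▸ ⟨hz.2, hz.1.2⟩)
    have e2 : W ⊓ HypQuad.perp Q S ⊔ S = W := by
      refine le_antisymm (sup_le inf_le_left hS) fun y hy => ?_
      obtain ⟨s, hs, r, hr, rfl⟩ := Submodule.mem_sup.mp (hc.sup_eq_top ▸ Submodule.mem_top : y ∈ S ⊔ HypQuad.perp Q S)
      exact Submodule.mem_sup.mpr ⟨r, ⟨by simpa using W.sub_mem hy (hS hs), hr⟩, s, hs, add_comm r s⟩
    rw [e1, e2, finrank_bot] at h
    omega

/-- `g` permutes the members. -/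
def Perms (Q : QuadraticForm F (ι → F)) {t : ℕ} (D : Fin t → Submodule F (ι → F))
    (g : Cfsg.isometryGroup F (⇑Q)) : Prop :=
  ∃ σ : Equiv.Perm (Fin t), ∀ l, ∀ x ∈ D l, mat Q g *ᵥ x ∈ D (σ l)

theorem perms_mul {t : ℕ} {D : Fin t → Submodule F (ι → F)} {g h : Cfsg.isometryGroup F (⇑Q)}
    (hg : Perms Q D g) (hh : Perms Q D h) : Perms Q D (g * h) := by
  obtain ⟨σ, hσ⟩ := hg
  obtain ⟨τ, hτ⟩ := hh
  exact ⟨σ * τ, fun l x hx => by rw [mv_mul]; exact hσ _ _ (hτ l x hx)⟩

namespace GSplit

variable {t k : ℕ} {D : Fin t → Submodule F (ι → F)} (T : GSplit Q k D)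
include T

theorem nd (i : Fin t) : Cfsg.Geo.IsNondegenerateOn (QuadraticMap.polar (⇑Q)) (D i) := T.decomp.decomp.nondegenerate i

theorem two_le_dim : 2 ≤ k := by rcases T.dim with h | h <;> omega

theorem finrank_eq (i : Fin t) : Module.finrank F (D i) = k := T.decomp.decomp.decomp.finrank_eq i

theorem orth {i j : Fin t} (h : i ≠ j) {a b : ι → F} (ha : a ∈ D i) (hb : b ∈ D j) :
    QuadraticMap.polar (⇑Q) a b = 0 := T.decomp.decomp.orthogonal i j h a ha b hb

/-- The orthogonal projection onto a member. -/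
noncomputable def comp (i : Fin t) : (ι → F) →ₗ[F] (ι → F) :=
  (D i).subtype ∘ₗ Submodule.linearProjOfIsCompl _ _ (nondeg_perp Q T.nondeg (T.nd i)).1

theorem comp_mem (i : Fin t) (v : ι → F) : T.comp i v ∈ D i := Subtype.coe_prop _

theorem comp_self {i : Fin t} {v : ι → F} (hv : v ∈ D i) : T.comp i v = v := by
  show ((Submodule.linearProjOfIsCompl _ _ (nondeg_perp Q T.nondeg (T.nd i)).1 v : D i) : ι → F) = v
  exact congrArg Subtype.val (Submodule.linearProjOfIsCompl_apply_left (nondeg_perp Q T.nondeg (T.nd i)).1 ⟨v, hv⟩)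

theorem comp_orth {i : Fin t} {v : ι → F} (hv : v ∈ HypQuad.perp Q (D i)) : T.comp i v = 0 := by
  show ((Submodule.linearProjOfIsCompl _ _ (nondeg_perp Q T.nondeg (T.nd i)).1 v : D i) : ι → F) = 0
  exact congrArg Subtype.val ((Submodule.linearProjOfIsCompl_apply_eq_zero_iff (nondeg_perp Q T.nondeg (T.nd i)).1).mpr hv)

theorem comp_ne {i j : Fin t} (h : i ≠ j) {v : ι → F} (hv : v ∈ D j) : T.comp i v = 0 :=
  T.comp_orth ((HypQuad.mem_perp Q).mpr fun _ hw => T.orth h hw hv)

theorem form {i : Fin t} {a : ι → F} (ha : a ∈ D i) (v : ι → F) :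
    QuadraticMap.polar (⇑Q) a v = QuadraticMap.polar (⇑Q) a (T.comp i v) := by
  obtain ⟨p, hp, q, hq, rfl⟩ := Submodule.mem_sup.mp
    ((nondeg_perp Q T.nondeg (T.nd i)).1.sup_eq_top ▸ Submodule.mem_top : v ∈ D i ⊔ HypQuad.perp Q (D i))
  rw [map_add, T.comp_self hp, T.comp_orth hq, add_zero, QuadraticMap.polar_add_right,
    (HypQuad.mem_perp Q).mp hq a ha, add_zero]

theorem sum_comp (v : ι → F) : ∑ i, T.comp i v = v := by
  have hz : ∀ j, ∀ a ∈ D j, QuadraticMap.polar (⇑Q) a (v - ∑ i, T.comp i v) = 0 := fun j a ha => by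
    rw [T.form ha, map_sub, map_sum, Finset.sum_eq_single j
      (fun l _ hl => T.comp_ne hl.symm (T.comp_mem l v)) (fun h => absurd (Finset.mem_univ j) h),
      T.comp_self (T.comp_mem j v), sub_self, QuadraticMap.polar_zero_right]
  refine (sub_eq_zero.mp (T.nondeg.2 _ fun x => ?_)).symm
  have hle : (⨆ j, D j) ≤ LinearMap.ker ((QuadraticMap.polarBilin Q).flip (v - ∑ i, T.comp i v)) :=
    iSup_le fun j a ha => hz j a ha
  rw [T.decomp.decomp.decomp.iSup_eq_top] at hle
  exact hle Submodule.mem_top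

theorem eq_zero {v : ι → F} (h : ∀ i, T.comp i v = 0) : v = 0 := by
  rw [← T.sum_comp v]; exact Finset.sum_eq_zero fun i _ => h i

theorem exists_comp {v : ι → F} (h : v ≠ 0) : ∃ i, T.comp i v ≠ 0 := by
  by_contra hc; push Not at hc; exact h (T.eq_zero hc)

theorem exists_other {x : ι → F} (hx : ∀ i, x ∉ D i) (m : Fin t) : ∃ l, l ≠ m ∧ T.comp l x ≠ 0 := by
  by_contra h
  push Not at h
  apply hx m
  rw [← T.sum_comp x, Finset.sum_eq_single m (fun l _ hl => h l hl) (fun h' => absurd (Finset.mem_univ m) h')]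
  exact T.comp_mem m x

theorem notMem_of_two {x : ι → F} {l m : Fin t} (hlm : l ≠ m) (hl : T.comp l x ≠ 0) (hm : T.comp m x ≠ 0)
    (i : Fin t) : x ∉ D i := fun hx => by
  rcases eq_or_ne l i with rfl | h
  · exact hm (T.comp_ne hlm.symm hx)
  · exact hl (T.comp_ne h hx)

theorem pair_split {x : ι → F} {a b : Fin t} (hab : a ≠ b) (h : ∀ l, l ≠ a → l ≠ b → T.comp l x = 0) :
    T.comp a x + T.comp b x = x := by
  classical
  conv_rhs => rw [← T.sum_comp x, ← Finset.sum_subset (Finset.subset_univ {a, b})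
    (fun l _ hl => h l (fun e => hl (by simp [e])) (fun e => hl (by simp [e])))]
  rw [Finset.sum_pair hab]

theorem Q_sum (s : Finset (Fin t)) (σ : Fin t → Fin t) (hσ : Set.InjOn σ s) (f : Fin t → ι → F)
    (hf : ∀ l ∈ s, f l ∈ D (σ l)) : Q (∑ l ∈ s, f l) = ∑ l ∈ s, Q (f l) := by
  classical
  induction s using Finset.induction with
  | empty => simp
  | insert a s has ih =>
    rw [Finset.sum_insert has, Finset.sum_insert has, QuadraticMap.map_add (f := Q),
      ih (hσ.mono (by simp)) (fun l hl => hf l (Finset.mem_insert_of_mem hl))]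
    have h0 : QuadraticMap.polar (⇑Q) (f a) (∑ l ∈ s, f l) = 0 := by
      rw [← QuadraticMap.polarBilin_apply_apply, map_sum]
      refine Finset.sum_eq_zero fun l hl => T.orth (fun e => ?_) (hf a (Finset.mem_insert_self a s))
        (hf l (Finset.mem_insert_of_mem hl))
      exact has (hσ (Finset.mem_insert_self a s) (Finset.mem_insert_of_mem hl) e ▸ hl)
    rw [h0, add_zero]

theorem card_eq : t * k = Fintype.card ι := by
  classical
  let e : (∀ i, D i) →ₗ[F] (ι → F) := ∑ i, (D i).subtype ∘ₗ LinearMap.proj i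
  have he : ∀ (f : ∀ i, D i) (i : Fin t), T.comp i (e f) = f i := by
    intro f i
    simp only [e, LinearMap.sum_apply, LinearMap.comp_apply, LinearMap.proj_apply, Submodule.subtype_apply, map_sum]
    rw [Finset.sum_eq_single i (fun l _ hl => T.comp_ne (Ne.symm hl) (f l).2)
      (fun h => absurd (Finset.mem_univ i) h), T.comp_self (f i).2]
  have hbij : Function.Bijective e := ⟨fun f g hfg => funext fun i => Subtype.ext (by rw [← he f, ← he g, hfg]),
    fun v => ⟨fun i => ⟨T.comp i v, T.comp_mem i v⟩, by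
      simp only [e, LinearMap.sum_apply, LinearMap.comp_apply, LinearMap.proj_apply, Submodule.subtype_apply]
      exact T.sum_comp v⟩⟩
  have h := (LinearEquiv.ofBijective e hbij).finrank_eq
  rw [Module.finrank_pi_fintype, Module.finrank_fintype_fun_eq_card] at h
  simpa [T.finrank_eq] using h

theorem seven_le (hk : k = 2) : 5 ≤ t := by
  have h1 := T.card_eq
  have h2 := T.big
  subst hk
  omega

theorem ext_blocks {g h : Cfsg.isometryGroup F (⇑Q)} (e : ∀ l, ∀ x ∈ D l, mat Q g *ᵥ x = mat Q h *ᵥ x) :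
    g = h := by
  refine ext_mulVec Q fun x => ?_
  rw [← T.sum_comp x, Matrix.mulVec_sum, Matrix.mulVec_sum]
  exact Finset.sum_congr rfl fun l _ => e l _ (T.comp_mem l x)

theorem see_member {i : Fin t} {o : ι → F} (ho : T.comp i o ≠ 0) : ∃ y ∈ D i, QuadraticMap.polar (⇑Q) y o ≠ 0 := by
  obtain ⟨-, y, hy, h⟩ := T.nd i _ (T.comp_mem i o) ho
  exact ⟨y, hy, by rw [T.form hy, QuadraticMap.polar_comm]; exact h⟩

theorem exists_value (i : Fin t) (μ : F) : ∃ v ∈ D i, Q v = μ :=
  value_in (T.nd i) (by rw [T.finrank_eq]; exact T.two_le_dim) μ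

theorem mem_span_of_perp (hk : k = 2) {i : Fin t} {v w : ι → F} (hv : v ∈ D i) (hv0 : v ≠ 0)
    (hvv : QuadraticMap.polar (⇑Q) v v = 0)
    (hw : w ∈ D i) (h : QuadraticMap.polar (⇑Q) v w = 0) : w ∈ Submodule.span F {v} := by
  by_contra hn
  have hli : LinearIndependent F ![v, w] := (LinearIndependent.pair_iff' hv0).mpr fun a ha =>
    hn (Submodule.mem_span_singleton.mpr ⟨a, ha⟩)
  have hle : Submodule.span F (Set.range ![v, w]) ≤ D i :=
    Submodule.span_le.mpr (by rintro _ ⟨j, rfl⟩; fin_cases j <;> assumption)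
  have heq : Submodule.span F (Set.range ![v, w]) = D i :=
    Submodule.eq_of_le_of_finrank_le hle (by rw [finrank_span_eq_card hli, T.finrank_eq, hk]; simp)
  obtain ⟨-, y, hy, hvy⟩ := T.nd i v hv hv0
  refine hvy ?_
  have : D i ≤ LinearMap.ker (QuadraticMap.polarBilin Q v) := heq ▸ Submodule.span_le.mpr
    (by rintro _ ⟨j, rfl⟩; fin_cases j <;> assumption)
  exact this hy

theorem two_five (hk : k = 2) (h2 : (2 : F) ≠ 0) : 5 ≤ Fintype.card F := by
  classical
  have h3 := T.two_three hk
  by_contra hlt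
  push Not at hlt
  obtain ⟨p, hp⟩ := CharP.exists F
  haveI : Fact p.Prime := ⟨CharP.char_is_prime F p⟩
  obtain ⟨⟨n, hn⟩, -, hcard⟩ := FiniteField.card F p
  have h1 := Fintype.one_lt_card (α := F)
  have hp2 : p ≠ 2 := fun e => h2 (by subst e; exact CharP.cast_eq_zero F 2)
  have hp3 : 3 ≤ p := by have := (CharP.char_is_prime F p).two_le; omega
  change Fintype.card F = p ^ n at hcard
  rcases Nat.lt_or_ge n 2 with hn2 | hn2
  · obtain rfl : n = 1 := by omega
    rw [pow_one] at hcard
    have hp4 : p ≠ 4 := fun e => by have := CharP.char_is_prime F p; subst e; norm_num at this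
    omega
  · have : 3 ^ 2 ≤ p ^ n := (Nat.pow_le_pow_left hp3 2).trans (Nat.pow_le_pow_right (by omega) hn2)
    omega

/-- Two vectors of a member with the same value are seen by a third one. -/
theorem connect {i : Fin t} {μ : F} (hμ : μ ≠ 0) {d d' : ι → F} (hd : d ∈ D i) (hd' : d' ∈ D i) (hQd : Q d = μ)
    (hQd' : Q d' = μ) (hne : d' ∉ Submodule.span F {d}) (hp : QuadraticMap.polar (⇑Q) d d' = 0) :
    ∃ c ∈ D i, Q c = μ ∧ QuadraticMap.polar (⇑Q) d c ≠ 0 ∧ QuadraticMap.polar (⇑Q) d' c ≠ 0 := by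
  classical
  have hd0 : d ≠ 0 := fun e => hμ (by rw [← hQd, e, QuadraticMap.map_zero])
  have hp' : QuadraticMap.polar (⇑Q) d' d = 0 := by rw [QuadraticMap.polar_comm]; exact hp
  set S := Submodule.span F (Set.range ![d, d']) with hS
  have hli : LinearIndependent F ![d, d'] := (LinearIndependent.pair_iff' hd0).mpr fun a ha =>
    hne (Submodule.mem_span_singleton.mpr ⟨a, ha⟩)
  have hSd : S ≤ D i := Submodule.span_le.mpr (by rintro _ ⟨j, rfl⟩; fin_cases j <;> assumption)
  have hSr : Module.finrank F S = 2 := by rw [hS, finrank_span_eq_card hli]; simp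
  have hdS : d ∈ S := Submodule.subset_span ⟨0, rfl⟩
  have hd'S : d' ∈ S := Submodule.subset_span ⟨1, rfl⟩
  by_cases h2 : (2 : F) = 0
  · have hk : 4 ≤ k := by
      refine T.dim.resolve_left fun hk => ?_
      exact hne (T.mem_span_of_perp hk hd hd0 (by rw [polar_self_two, h2, zero_mul]) hd' hp)
    obtain ⟨-, a, ha, hda⟩ := T.nd i d hd hd0
    have hstep : ∃ e ∈ D i, QuadraticMap.polar (⇑Q) d e ≠ 0 ∧ QuadraticMap.polar (⇑Q) d' e ≠ 0 := by
      by_cases h1 : QuadraticMap.polar (⇑Q) d' a = 0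
      · obtain ⟨-, b, hb, hdb⟩ := T.nd i d' hd' (fun e => hμ (by rw [← hQd', e, QuadraticMap.map_zero]))
        by_cases h3 : QuadraticMap.polar (⇑Q) d b = 0
        · refine ⟨a + b, (D i).add_mem ha hb, ?_, ?_⟩
          · rwa [QuadraticMap.polar_add_right, h3, add_zero]
          · rwa [QuadraticMap.polar_add_right, h1, zero_add]
        · exact ⟨b, hb, h3, hdb⟩
      · exact ⟨a, ha, hda, h1⟩
    obtain ⟨e, he, hde, hd'e⟩ := hstep
    obtain ⟨c, hc, hQc, hdc, hd'c⟩ : ∃ c ∈ D i, Q c ≠ 0 ∧ QuadraticMap.polar (⇑Q) d c ≠ 0 ∧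
        QuadraticMap.polar (⇑Q) d' c ≠ 0 := by
      by_contra hcon
      push Not at hcon
      set X := D i ⊓ HypQuad.perp Q S
      have hall : ∀ z ∈ X, Q (e + z) = 0 := fun z hz => by
        have h1 : QuadraticMap.polar (⇑Q) d z = 0 := (HypQuad.mem_perp Q).mp hz.2 d hdS
        have h3 : QuadraticMap.polar (⇑Q) d' z = 0 := (HypQuad.mem_perp Q).mp hz.2 d' hd'S
        by_contra hne'
        refine hd'e ?_
        have := hcon (e + z) ((D i).add_mem he hz.1) hne' (by rwa [QuadraticMap.polar_add_right, h1, add_zero])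
        rwa [QuadraticMap.polar_add_right, h3, add_zero] at this
      have hQe : Q e = 0 := by simpa using hall 0 (Submodule.zero_mem _)
      have hlin : ∀ z ∈ X, Q z + QuadraticMap.polar (⇑Q) e z = 0 := fun z hz => by
        have := hall z hz
        rwa [QuadraticMap.map_add (f := Q), hQe, zero_add] at this
      have hdd : QuadraticMap.polar (⇑Q) d d = 0 := by rw [polar_self_two, h2, zero_mul]
      have hd'd' : QuadraticMap.polar (⇑Q) d' d' = 0 := by rw [polar_self_two, h2, zero_mul]
      have hperpS : ∀ z ∈ D i, QuadraticMap.polar (⇑Q) d z = 0 → QuadraticMap.polar (⇑Q) d' z = 0 → z ∈ X := by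
        intro z hz h1 h3
        refine ⟨hz, (HypQuad.mem_perp Q).mpr fun w hw => ?_⟩
        have : S ≤ LinearMap.ker ((QuadraticMap.polarBilin Q).flip z) :=
          Submodule.span_le.mpr (by rintro _ ⟨j, rfl⟩; fin_cases j <;> assumption)
        exact this hw
      have hdX : d ∈ X := hperpS d hd hdd hp'
      have hd'X : d' ∈ X := hperpS d' hd' hp hd'd'
      by_cases hq : Fintype.card F = 2
      · have hX0 : ∀ a ∈ X, ∀ b ∈ X, QuadraticMap.polar (⇑Q) a b = 0 := fun a ha b hb => by
          have := hlin _ (X.add_mem ha hb)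
          rw [QuadraticMap.map_add (f := Q), QuadraticMap.polar_add_right] at this
          linear_combination this - hlin a ha - hlin b hb
        have hXS : X ≤ S := by
          have h' : Module.finrank F X + Module.finrank F X ≤ k := by
            have h3 := HypQuad.finrank_perp Q T.nondeg X
            have hXP : X ≤ HypQuad.perp Q X := fun z hz => (HypQuad.mem_perp Q).mpr fun w hw => hX0 w hw z hz
            have hle : HypQuad.perp Q (D i) ⊔ X ≤ HypQuad.perp Q X := sup_le
              (fun z hz => (HypQuad.mem_perp Q).mpr fun w hw => (HypQuad.mem_perp Q).mp hz w hw.1) hXP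
            have hdis : HypQuad.perp Q (D i) ⊓ X = ⊥ := le_bot_iff.mp fun z hz =>
              (nondeg_perp Q T.nondeg (T.nd i)).1.inf_eq_bot ▸ ⟨hz.2.1, hz.1⟩
            have h4 := Submodule.finrank_mono hle
            have h5 := Submodule.finrank_sup_add_finrank_inf_eq (HypQuad.perp Q (D i)) X
            rw [hdis, finrank_bot, HypQuad.finrank_perp Q T.nondeg (D i)] at h5
            rw [h3] at h4
            rw [T.finrank_eq] at h5
            have h6 := Submodule.finrank_le (D i)
            have h7 : X ≤ D i := inf_le_left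
            have h8 := Submodule.finrank_mono h7
            rw [Module.finrank_fintype_fun_eq_card] at h4 h5
            rw [T.finrank_eq, Module.finrank_fintype_fun_eq_card] at h6
            rw [T.finrank_eq] at h8
            omega
          have hXk : k ≤ Module.finrank F X + 2 := by
            have h5 := Submodule.finrank_sup_add_finrank_inf_eq (D i) (HypQuad.perp Q S)
            have h6 := Submodule.finrank_le (D i ⊔ HypQuad.perp Q S)
            rw [HypQuad.finrank_perp Q T.nondeg, hSr, T.finrank_eq] at h5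
            change _ + Module.finrank F X = _ at h5
            omega
          have hle : S ≤ X := Submodule.span_le.mpr (by rintro _ ⟨j, rfl⟩; fin_cases j <;> assumption)
          exact (Submodule.eq_of_le_of_finrank_le hle (by omega)).ge
        have hk4 : k = 4 := by
          have h5 := Submodule.finrank_sup_add_finrank_inf_eq (D i) (HypQuad.perp Q S)
          have h6 := Submodule.finrank_le (D i ⊔ HypQuad.perp Q S)
          have h9 := Submodule.finrank_mono hXS
          rw [HypQuad.finrank_perp Q T.nondeg, hSr, T.finrank_eq] at h5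
          rw [hSr] at h9
          change _ + Module.finrank F X = _ at h5
          omega
        have hQs : Q (d + d') = 0 := by
          rw [QuadraticMap.map_add (f := Q), hQd, hQd', hp, ← two_mul, h2]; simp
        have hse : QuadraticMap.polar (⇑Q) (d + d') e = 0 := by
          have h1 := hlin _ (X.add_mem hdX hd'X)
          rw [hQs, zero_add] at h1
          rwa [QuadraticMap.polar_comm]
        have hspan := T.four_two hk4 hq i _ ((D i).add_mem hd hd') e he hQs hQe hse
        have hsum0 : d + d' ≠ 0 := fun h => hne (by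
          rw [eq_neg_of_add_eq_zero_right h]; exact neg_mem (Submodule.mem_span_singleton_self d))
        have hli2 : LinearIndependent F ![d + d', e] := (LinearIndependent.pair_iff' hsum0).mpr fun a ha => by
          apply hde
          rw [← ha, QuadraticMap.polar_smul_right, QuadraticMap.polar_add_right, hdd, hp, add_zero, smul_zero]
        have := finrank_span_eq_card hli2
        rw [Matrix.range_cons_cons_empty] at this
        simp at this
        omega
      · obtain ⟨s, hs⟩ : ∃ s : F, s ∉ ({0, 1} : Finset F) := by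
          by_contra h
          push Not at h
          have := (Finset.card_le_card (fun x _ => h x : (Finset.univ : Finset F) ⊆ {0, 1})).trans Finset.card_le_two
          rw [Finset.card_univ] at this
          have := Fintype.one_lt_card (α := F)
          omega
        simp only [Finset.mem_insert, Finset.mem_singleton, not_or] at hs
        have h1 := hlin d hdX
        have h3 := hlin (s • d) (X.smul_mem s hdX)
        rw [QuadraticMap.map_smul, QuadraticMap.polar_smul_right, hQd] at h3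
        rw [hQd] at h1
        simp only [smul_eq_mul] at h3
        have h4 : s * (s - 1) * μ = 0 := by linear_combination h3 - s * h1
        exact mul_ne_zero (mul_ne_zero hs.1 (sub_ne_zero.mpr hs.2)) hμ h4
    obtain ⟨r, hr⟩ := exists_sqrt_two h2 (μ / Q c)
    have hr0 : r ≠ 0 := fun e => div_ne_zero hμ hQc (by rw [← hr, e, mul_zero])
    refine ⟨r • c, (D i).smul_mem _ hc, ?_, ?_, ?_⟩
    · rw [QuadraticMap.map_smul, smul_eq_mul, hr, div_mul_cancel₀ _ hQc]
    · rw [QuadraticMap.polar_smul_right, smul_eq_mul]; exact mul_ne_zero hr0 hdc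
    · rw [QuadraticMap.polar_smul_right, smul_eq_mul]; exact mul_ne_zero hr0 hd'c
  · have hdd : QuadraticMap.polar (⇑Q) d d = 2 * μ := by rw [polar_self_two, hQd]
    have hd'd' : QuadraticMap.polar (⇑Q) d' d' = 2 * μ := by rw [polar_self_two, hQd']
    rcases T.dim with hk | hk
    · obtain ⟨a, ha⟩ : ∃ a : F, a ≠ 0 ∧ a ≠ 1 ∧ a ≠ -1 ∧ a * a ≠ -1 := by
        by_contra h
        push Not at h
        have hq := T.two_five hk h2
        obtain ⟨r, hr⟩ : ∃ r : F, r * r = -1 := by
          obtain ⟨r, hr⟩ : ∃ s : F, s ∉ ({0, 1, -1} : Finset F) := by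
            by_contra h'
            push Not at h'
            have := (Finset.card_le_card (fun x _ => h' x : (Finset.univ : Finset F) ⊆ {0, 1, -1})).trans
              Finset.card_le_three
            rw [Finset.card_univ] at this
            omega
          simp only [Finset.mem_insert, Finset.mem_singleton, not_or] at hr
          exact ⟨r, h r hr.1 hr.2.1 hr.2.2⟩
        have hq7 : 7 ≤ Fintype.card F := by
          have hrd : d + r • d' ≠ 0 := fun e => by
            have := congrArg (QuadraticMap.polar (⇑Q) d) e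
            rw [QuadraticMap.polar_add_right, QuadraticMap.polar_smul_right, hdd, hp,
              QuadraticMap.polar_zero_right, smul_zero, add_zero] at this
            exact mul_ne_zero h2 hμ this
          refine T.two_plus hk i _ ((D i).add_mem hd ((D i).smul_mem r hd')) hrd ?_
          have := val_lin Q hp 1 r
          rw [one_smul, hQd, hQd'] at this
          rw [this]
          linear_combination μ * hr
        have hsub : (Finset.univ : Finset F) ⊆ {0, 1, -1, r, -r} := fun x _ => by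
          simp only [Finset.mem_insert, Finset.mem_singleton]
          by_cases h0 : x = 0; · exact Or.inl h0
          by_cases h1 : x = 1; · exact Or.inr (Or.inl h1)
          by_cases h3 : x = -1; · exact Or.inr (Or.inr (Or.inl h3))
          have := h x h0 h1 h3
          rw [← hr] at this
          rcases mul_self_eq_mul_self_iff.mp this with h4 | h4
          · exact Or.inr (Or.inr (Or.inr (Or.inl h4)))
          · exact Or.inr (Or.inr (Or.inr (Or.inr h4)))
        have := Finset.card_le_card hsub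
        have := Finset.card_le_five (a := (0 : F)) (b := 1) (c := -1) (d := r) (e := -r)
        rw [Finset.card_univ] at *
        omega
      obtain ⟨ha0, ha1, ha2, ha3⟩ := ha
      have hden : 1 + a * a ≠ 0 := fun e => ha3 (by linear_combination e)
      have hα : (1 - a * a) / (1 + a * a) ≠ 0 := div_ne_zero (fun e => by
        rcases mul_self_eq_one_iff.mp (sub_eq_zero.mp e).symm with h | h
        · exact ha1 h
        · exact ha2 h) hden
      have hβ : 2 * a / (1 + a * a) ≠ 0 := div_ne_zero (mul_ne_zero h2 ha0) hden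
      refine ⟨((1 - a * a) / (1 + a * a)) • d + (2 * a / (1 + a * a)) • d',
        (D i).add_mem ((D i).smul_mem _ hd) ((D i).smul_mem _ hd'), ?_, ?_, ?_⟩
      · rw [val_lin Q hp, hQd, hQd', div_mul_div_comm, div_mul_div_comm, div_mul_eq_mul_div, div_mul_eq_mul_div,
          ← add_div, div_eq_iff (mul_ne_zero hden hden)]
        ring
      · rw [QuadraticMap.polar_add_right, QuadraticMap.polar_smul_right, QuadraticMap.polar_smul_right, hdd, hp,
          smul_zero, add_zero, smul_eq_mul]
        exact mul_ne_zero hα (mul_ne_zero h2 hμ)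
      · rw [QuadraticMap.polar_add_right, QuadraticMap.polar_smul_right, QuadraticMap.polar_smul_right, hd'd', hp',
          smul_zero, zero_add, smul_eq_mul]
        exact mul_ne_zero hβ (mul_ne_zero h2 hμ)
    · have hSn : Cfsg.Geo.IsNondegenerateOn (QuadraticMap.polar (⇑Q)) S := by
        intro w hw hw0
        suffices hs : ∃ x ∈ S, QuadraticMap.polar (⇑Q) w x ≠ 0 by
          obtain ⟨x, hx, h⟩ := hs
          exact ⟨⟨x, hx, by rwa [QuadraticMap.polar_comm]⟩, ⟨x, hx, h⟩⟩
        rw [hS, Matrix.range_cons_cons_empty, Submodule.mem_span_pair] at hw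
        obtain ⟨α, β, rfl⟩ := hw
        by_contra hc
        push Not at hc
        have h1 := hc d hdS
        have h3 := hc d' hd'S
        simp only [QuadraticMap.polar_add_left, QuadraticMap.polar_smul_left, hdd, hd'd', hp, hp', smul_eq_mul,
          mul_zero, add_zero, zero_add, mul_eq_zero] at h1 h3
        apply hw0
        rw [h1.resolve_right (by simp [h2, hμ]), h3.resolve_right (by simp [h2, hμ]), zero_smul, zero_smul, add_zero]
      obtain ⟨hE, hEr⟩ := split_nondeg T.nondeg hSd (T.nd i) hSn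
      rw [hSr, T.finrank_eq] at hEr
      obtain ⟨e, he, hQe⟩ := value_in hE (by omega) (-μ)
      have h1 : QuadraticMap.polar (⇑Q) d e = 0 := (HypQuad.mem_perp Q).mp he.2 d hdS
      have h3 : QuadraticMap.polar (⇑Q) d' e = 0 := (HypQuad.mem_perp Q).mp he.2 d' hd'S
      refine ⟨d + d' + e, (D i).add_mem ((D i).add_mem hd hd') he.1, ?_, ?_, ?_⟩
      · rw [QuadraticMap.map_add (f := Q), QuadraticMap.map_add (f := Q), hQd, hQd', hQe, hp,
          QuadraticMap.polar_add_left, h1, h3]
        ring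
      · rw [QuadraticMap.polar_add_right, QuadraticMap.polar_add_right, hdd, hp, h1, add_zero, add_zero]
        exact mul_ne_zero h2 hμ
      · rw [QuadraticMap.polar_add_right, QuadraticMap.polar_add_right, hd'd', hp', h3, add_zero, zero_add]
        exact mul_ne_zero h2 hμ

/-- The vectors of one value span a member. -/
theorem span_value (i : Fin t) {μ : F} (hμ : μ ≠ 0) (N : Submodule F (ι → F))
    (hN : ∀ v ∈ D i, Q v = μ → v ∈ N) : D i ≤ N := by
  classical
  refine nonsingular_span (W := D i) Q (T.nd i) (fun h => ?_) N fun w hw hQw => ?_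
  · obtain ⟨hq, hr, s, hs, hs0, hQs⟩ := h
    rw [T.finrank_eq] at hr
    have := T.two_plus hr i s hs hs0 hQs
    omega
  by_cases h2 : (2 : F) = 0
  · obtain ⟨r, hr⟩ := exists_sqrt_two h2 (μ / Q w)
    have hr0 : r ≠ 0 := fun e => div_ne_zero hμ hQw (by rw [← hr, e, mul_zero])
    have := hN (r • w) ((D i).smul_mem _ hw) (by rw [QuadraticMap.map_smul, smul_eq_mul, hr, div_mul_cancel₀ _ hQw])
    rwa [Submodule.smul_mem_iff _ hr0] at this
  obtain ⟨d, hd, hQd⟩ := T.exists_value i μ
  have hrefl : ∀ v ∈ D i, Q v ≠ 0 → QuadraticMap.polar (⇑Q) v d ≠ 0 → v ∈ N := fun v hv hQv hvd => by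
    have h1 := hN (Cfsg.reflectionMatrix (⇑Q) v *ᵥ d)
      (by rw [mulVec_eq]; exact (D i).sub_mem hd ((D i).smul_mem _ hv)) (by rw [preserve Q v hQv, hQd])
    rw [mulVec_eq] at h1
    have := N.sub_mem (hN d hd hQd) h1
    rwa [sub_sub_cancel, Submodule.smul_mem_iff _ (mul_ne_zero (inv_ne_zero hQv) hvd)] at this
  by_cases hwd : QuadraticMap.polar (⇑Q) w d = 0
  · by_cases hex : ∃ s : F, s ≠ 0 ∧ s * s * Q w + μ ≠ 0
    swap
    · push Not at hex
      -- only three scalars: a third direction is used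
      have hq : Fintype.card F = 3 := by
        by_contra hq
        obtain ⟨s, hs⟩ : ∃ s : F, s ∉ ({0, 1, -1} : Finset F) := by
          by_contra h'
          push Not at h'
          have := (Finset.card_le_card (fun x _ => h' x : (Finset.univ : Finset F) ⊆ {0, 1, -1})).trans
            Finset.card_le_three
          rw [Finset.card_univ] at this
          have := Fintype.one_lt_card (α := F)
          have h4 : Fintype.card F ≠ 2 := fun e => h2 (by
            haveI : CharP F 2 := charP_of_card_eq_prime e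
            exact CharP.cast_eq_zero F 2)
          omega
        simp only [Finset.mem_insert, Finset.mem_singleton, not_or] at hs
        have e : (s * s - 1) * Q w = 0 := by linear_combination hex s hs.1 - hex 1 one_ne_zero
        rcases mul_self_eq_one_iff.mp (sub_eq_zero.mp ((mul_eq_zero.mp e).resolve_right hQw)) with h' | h'
        · exact hs.2.1 h'
        · exact hs.2.2 h'
      have hk : 4 ≤ k := T.dim.resolve_left (fun hk => T.two_three hk hq)
      have hS : Cfsg.Geo.IsNondegenerateOn (QuadraticMap.polar (⇑Q)) (Submodule.span F {w}) := by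
        intro z hz hz0
        obtain ⟨a, rfl⟩ := Submodule.mem_span_singleton.mp hz
        have : QuadraticMap.polar (⇑Q) (a • w) w ≠ 0 := by
          rw [QuadraticMap.polar_smul_left, polar_self_two, smul_eq_mul]
          exact mul_ne_zero (fun e => hz0 (by rw [e, zero_smul])) (mul_ne_zero h2 hQw)
        exact ⟨⟨w, Submodule.mem_span_singleton_self w, by rwa [QuadraticMap.polar_comm]⟩,
          ⟨w, Submodule.mem_span_singleton_self w, this⟩⟩
      obtain ⟨hE, hEr⟩ := split_nondeg T.nondeg (by simpa using hw) (T.nd i) hS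
      rw [T.finrank_eq, finrank_span_singleton (fun e => hQw (by rw [e, QuadraticMap.map_zero]))] at hEr
      obtain ⟨z, hz, hQz⟩ := value_in hE (by omega) (μ - Q w)
      have hwz := (HypQuad.mem_perp Q).mp hz.2 w (Submodule.mem_span_singleton_self w)
      have h' := N.add_mem (hN (w + z) ((D i).add_mem hw hz.1) (by
          rw [QuadraticMap.map_add (f := Q), hQz, hwz]; ring))
        (hN (w - z) ((D i).sub_mem hw hz.1) (by
          rw [sub_eq_add_neg, QuadraticMap.map_add (f := Q), QuadraticMap.map_neg, hQz,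
            QuadraticMap.polar_neg_right, hwz]; ring))
      rw [add_add_sub_cancel, ← two_smul F, Submodule.smul_mem_iff _ h2] at h'
      exact h'
    obtain ⟨s, hs0, hs⟩ := hex
    have hv : s • w + d ∈ N := hrefl _ ((D i).add_mem ((D i).smul_mem _ hw) hd) (by
        rw [QuadraticMap.map_add (f := Q), QuadraticMap.map_smul, QuadraticMap.polar_smul_left, hwd, hQd]
        simpa using hs) (by
        rw [QuadraticMap.polar_add_left, QuadraticMap.polar_smul_left, hwd, polar_self_two, hQd]
        simpa [smul_eq_mul] using And.intro h2 hμ)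
    have := N.sub_mem hv (hN d hd hQd)
    rwa [add_sub_cancel_right, Submodule.smul_mem_iff _ hs0] at this
  · exact hrefl w hw hQw hwd

/-- A map sending every vector of one value into a member permutes the members. -/
theorem perms_of_map {g : Cfsg.isometryGroup F (⇑Q)} (h : ∀ i, ∃ a, ∀ x ∈ D i, mat Q g *ᵥ x ∈ D a) :
    Perms Q D g := by
  choose f hf using h
  have hfi : Function.Injective f := fun a b hab => by
    by_contra hne
    obtain ⟨v, hv, hQv⟩ := T.exists_value a 1
    have hmap : (D b).map (Matrix.toLin' (mat Q g)) = D (f b) :=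
      Submodule.eq_of_le_of_finrank_le (by rintro _ ⟨x, hx, rfl⟩; exact hf b x hx) (by
        rw [show Module.finrank F ((D b).map (Matrix.toLin' (mat Q g))) = Module.finrank F (D b) from
          LinearEquiv.finrank_map_eq (Matrix.toLinearEquiv' (mat Q g) (g : GL ι F).invertible) (D b),
          T.finrank_eq, T.finrank_eq])
    have h1 := hf a v hv
    rw [hab, ← hmap] at h1
    obtain ⟨v', hv', e⟩ := h1
    have hvv' : v' = v := mv_injective Q g e
    rw [hvv'] at hv'
    have hvv : v = 0 := by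
      rw [← T.comp_self hv, T.comp_ne hne hv']
    rw [hvv, QuadraticMap.map_zero] at hQv
    exact zero_ne_one hQv
  exact ⟨Equiv.ofBijective f (Finite.injective_iff_bijective.mp hfi), fun l x hx => hf l x hx⟩

theorem exists_off {g : Cfsg.isometryGroup F (⇑Q)} (hg : ¬ Perms Q D g) {μ : F} (hμ : μ ≠ 0) :
    ∃ i, ∃ d ∈ D i, Q d = μ ∧ ∀ a, mat Q g *ᵥ d ∉ D a := by
  by_contra hc
  push Not at hc
  refine hg (T.perms_of_map fun i => ?_)
  obtain ⟨d, hd, hQd⟩ := T.exists_value i μ
  obtain ⟨a, ha⟩ := hc i d hd hQd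
  have hadj : ∀ v w : ι → F, v ∈ D i → w ∈ D i → Q w = μ → mat Q g *ᵥ v ∈ D a →
      QuadraticMap.polar (⇑Q) v w ≠ 0 → mat Q g *ᵥ w ∈ D a := by
    intro v w hv hw hQw hva hvw
    obtain ⟨b, hb⟩ := hc i w hw hQw
    rcases eq_or_ne a b with rfl | hne
    · exact hb
    · exact absurd (by rw [← polar_act Q g]; exact T.orth hne hva hb) hvw
  have hall : ∀ v ∈ D i, Q v = μ → mat Q g *ᵥ v ∈ D a := by
    intro v hv hQv
    by_cases hsp : v ∈ Submodule.span F {d}
    · obtain ⟨r, rfl⟩ := Submodule.mem_span_singleton.mp hsp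
      rw [Matrix.mulVec_smul]
      exact (D a).smul_mem _ ha
    by_cases hp : QuadraticMap.polar (⇑Q) d v = 0
    · obtain ⟨c, hc', hQc, h1, h2⟩ := T.connect hμ hd hv hQd hQv hsp hp
      exact hadj c v hc' hv hQv (hadj d c hd hc' hQc ha h1) (by rwa [QuadraticMap.polar_comm])
    · exact hadj d v hd hv hQv ha hp
  refine ⟨a, fun x hx => ?_⟩
  exact T.span_value i hμ ((D a).comap (Matrix.toLin' (mat Q g))) hall hx

/-- Two independent vectors of one value that see each other. -/
theorem exists_pair (i : Fin t) {μ : F} (hμ : μ ≠ 0) {v : ι → F} (hv : v ∈ D i) (hQv : Q v = μ) :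
    ∃ w ∈ D i, Q w = μ ∧ w ∉ Submodule.span F {v} ∧ QuadraticMap.polar (⇑Q) v w ≠ 0 := by
  obtain ⟨w, hw, hQw, hwv⟩ : ∃ w ∈ D i, Q w = μ ∧ w ∉ Submodule.span F {v} := by
    by_contra h
    push Not at h
    obtain ⟨a, ha, hav⟩ := exists_notMem_span (W := D i) (by rw [T.finrank_eq]; exact T.two_le_dim) v
    exact hav (T.span_value i hμ _ h ha)
  by_cases hp : QuadraticMap.polar (⇑Q) v w = 0
  · obtain ⟨c, hc, hQc, h1, h2⟩ := T.connect hμ hv hw hQv hQw hwv hp
    refine ⟨c, hc, hQc, fun hsp => h2 ?_, h1⟩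
    obtain ⟨r, rfl⟩ := Submodule.mem_span_singleton.mp hsp
    rw [QuadraticMap.polar_smul_right, QuadraticMap.polar_comm, hp, smul_zero]
  · exact ⟨w, hw, hQw, hwv, hp⟩

/-- An isometry acting member by member. -/
theorem exists_block (σ : Equiv.Perm (Fin t)) (f : Fin t → (ι → F) →ₗ[F] (ι → F))
    (hf : ∀ l, ∀ x ∈ D l, f l x ∈ D (σ l) ∧ Q (f l x) = Q x) :
    ∃ g : Cfsg.isometryGroup F (⇑Q), ∀ l, ∀ x ∈ D l, mat Q g *ᵥ x = f l x := by
  classical
  let φ : (ι → F) →ₗ[F] (ι → F) := ∑ l, f l ∘ₗ T.comp l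
  have hφ : ∀ x, φ x = ∑ l, f l (T.comp l x) := fun x => by simp [φ, LinearMap.sum_apply]
  have hblock : ∀ l, ∀ x ∈ D l, φ x = f l x := fun l x hx => by
    rw [hφ, Finset.sum_eq_single l (fun m _ hm => by rw [T.comp_ne hm hx, map_zero])
      (fun h => absurd (Finset.mem_univ l) h), T.comp_self hx]
  have hQφ : ∀ x, Q (φ x) = Q x := fun x => by
    conv_rhs => rw [← T.sum_comp x]
    rw [hφ, T.Q_sum _ σ σ.injective.injOn _ (fun l _ => (hf l _ (T.comp_mem l x)).1),
      T.Q_sum Finset.univ id Function.injective_id.injOn (fun l => T.comp l x) (fun l _ => T.comp_mem l x)]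
    exact Finset.sum_congr rfl fun l _ => (hf l _ (T.comp_mem l x)).2
  have hinj : Function.Injective φ := by
    refine (injective_iff_map_eq_zero φ).mpr fun x hx => T.nondeg.2 x fun y => ?_
    have : QuadraticMap.polar (⇑Q) (φ y) (φ x) = QuadraticMap.polar (⇑Q) y x := by
      simp only [QuadraticMap.polar, ← map_add, hQφ]
    rw [hx, QuadraticMap.polar_zero_right] at this
    exact this.symm
  obtain ⟨g, hg⟩ := exists_of_equiv Q (LinearEquiv.ofInjectiveEndo φ hinj) fun x => hQφ x
  exact ⟨g, fun l x hx => (hg x).trans (hblock l x hx)⟩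

theorem exists_iso (a b : Fin t) :
    ∃ f : (ι → F) →ₗ[F] (ι → F), ∀ x ∈ D a, f x ∈ D b ∧ Q (f x) = Q x := by
  obtain ⟨e, he⟩ := T.decomp.isometric a b
  refine ⟨(D b).subtype ∘ₗ e.toLinearMap ∘ₗ (T.comp a).codRestrict (D a) (T.comp_mem a), fun x hx => ?_⟩
  refine ⟨Subtype.coe_prop _, ?_⟩
  have : (T.comp a).codRestrict (D a) (T.comp_mem a) x = ⟨x, hx⟩ := Subtype.ext (T.comp_self hx)
  simp only [LinearMap.comp_apply, this]
  exact he ⟨x, hx⟩

omit T

/-- An involution exchanging two members and fixing the others. -/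
def IsSwap (Q : QuadraticForm F (ι → F)) (D : Fin t → Submodule F (ι → F)) (a b : Fin t)
    (g : Cfsg.isometryGroup F (⇑Q)) : Prop :=
  g * g = 1 ∧ (∀ x ∈ D a, mat Q g *ᵥ x ∈ D b) ∧ (∀ x ∈ D b, mat Q g *ᵥ x ∈ D a) ∧
    ∀ l, l ≠ a → l ≠ b → ∀ x ∈ D l, mat Q g *ᵥ x = x

include T

theorem IsSwap.perms {a b : Fin t} {g : Cfsg.isometryGroup F (⇑Q)} (h : IsSwap Q D a b g) : Perms Q D g :=
  ⟨Equiv.swap a b, fun l x hx => by
    rcases eq_or_ne l a with rfl | hla
    · rw [Equiv.swap_apply_left]; exact h.2.1 x hx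
    rcases eq_or_ne l b with rfl | hlb
    · rw [Equiv.swap_apply_right]; exact h.2.2.1 x hx
    rw [Equiv.swap_apply_of_ne_of_ne hla hlb, h.2.2.2 l hla hlb x hx]
    exact hx⟩

theorem exists_swap {a b : Fin t} (hab : a ≠ b) (f : (ι → F) →ₗ[F] (ι → F))
    (hf : ∀ x ∈ D a, f x ∈ D b ∧ Q (f x) = Q x) :
    ∃ g, IsSwap Q D a b g ∧ ∀ x ∈ D a, mat Q g *ᵥ x = f x := by
  classical
  let r : D a →ₗ[F] D b := (f.domRestrict (D a)).codRestrict (D b) fun x => (hf x x.2).1
  have hr : Function.Injective r := by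
    refine (injective_iff_map_eq_zero r).mpr fun x hx => ?_
    have hfx : f x = 0 := congrArg Subtype.val hx
    by_contra hx0
    obtain ⟨-, y, hy, hxy⟩ := T.nd a x x.2 (fun e => hx0 (Subtype.ext e))
    apply hxy
    have : QuadraticMap.polar (⇑Q) (f x) (f y) = QuadraticMap.polar (⇑Q) x y := by
      simp only [QuadraticMap.polar, ← map_add, (hf _ ((D a).add_mem x.2 hy)).2, (hf _ x.2).2, (hf _ hy).2]
    rw [hfx, QuadraticMap.polar_zero_left] at this
    exact this.symm
  let e : D a ≃ₗ[F] D b := LinearEquiv.ofBijective r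
    ⟨hr, (LinearMap.injective_iff_surjective_of_finrank_eq_finrank (by rw [T.finrank_eq, T.finrank_eq])).mp hr⟩
  let f' : (ι → F) →ₗ[F] (ι → F) := (D a).subtype ∘ₗ e.symm.toLinearMap ∘ₗ (T.comp b).codRestrict (D b) (T.comp_mem b)
  have hf' : ∀ x ∈ D a, f' (f x) = x := fun x hx => by
    have h1 : (T.comp b).codRestrict (D b) (T.comp_mem b) (f x) = e ⟨x, hx⟩ :=
      Subtype.ext ((T.comp_self (hf x hx).1).trans rfl)
    simp [f', h1]
  have hsurj : ∀ y ∈ D b, ∃ x ∈ D a, f x = y := fun y hy =>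
    ⟨e.symm ⟨y, hy⟩, (e.symm ⟨y, hy⟩).2, congrArg Subtype.val (e.apply_symm_apply ⟨y, hy⟩)⟩
  obtain ⟨g, hg⟩ := T.exists_block (Equiv.swap a b)
    (fun l => if l = a then f else if l = b then f' else LinearMap.id) (fun l x hx => by
      split_ifs with h1 h2
      · subst h1; rw [Equiv.swap_apply_left]; exact hf x hx
      · subst h2
        obtain ⟨x', hx', rfl⟩ := hsurj x hx
        rw [Equiv.swap_apply_right, hf' x' hx', (hf x' hx').2]
        exact ⟨hx', rfl⟩
      · rw [Equiv.swap_apply_of_ne_of_ne h1 h2]; exact ⟨hx, rfl⟩)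
  have hga : ∀ x ∈ D a, mat Q g *ᵥ x = f x := fun x hx => by rw [hg a x hx, if_pos rfl]
  have hgb : ∀ x ∈ D a, mat Q g *ᵥ f x = x := fun x hx => by
    rw [hg b _ (hf x hx).1, if_neg hab.symm, if_pos rfl, hf' x hx]
  have hgo : ∀ l, l ≠ a → l ≠ b → ∀ x ∈ D l, mat Q g *ᵥ x = x := fun l h1 h2 x hx => by
    rw [hg l x hx, if_neg h1, if_neg h2]; rfl
  refine ⟨g, ⟨T.ext_blocks fun l x hx => ?_, fun x hx => by rw [hga x hx]; exact (hf x hx).1, fun x hx => ?_, hgo⟩, hga⟩
  · rw [mv_mul, mv_one]
    rcases eq_or_ne l a with rfl | hla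
    · rw [hga x hx, hgb x hx]
    rcases eq_or_ne l b with rfl | hlb
    · obtain ⟨x', hx', rfl⟩ := hsurj x hx
      rw [hgb x' hx', hga x' hx']
    rw [hgo l hla hlb x hx, hgo l hla hlb x hx]
  · obtain ⟨x', hx', rfl⟩ := hsurj x hx
    rw [hgb x' hx']
    exact hx'

/-- The product of any two exchanges lies in `Ω`. -/
theorem swap_mul_omega {a b c d : Fin t} (hab : a ≠ b) (hcd : c ≠ d) {g h : Cfsg.isometryGroup F (⇑Q)}
    (hg : IsSwap Q D a b g) (hh : IsSwap Q D c d h) : g * h ∈ Cfsg.Omega F (⇑Q) := by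
  classical
  set σ : Equiv.Perm (Fin t) := Equiv.swap (Equiv.swap a c b) d * Equiv.swap a c with hσ
  have hσa : σ a = c := by
    rw [hσ, Equiv.Perm.mul_apply, Equiv.swap_apply_left]
    refine Equiv.swap_apply_of_ne_of_ne (fun e => hab ?_) hcd
    exact (Equiv.swap a c).injective (by rw [Equiv.swap_apply_left]; exact e)
  have hσb : σ b = d := by rw [hσ, Equiv.Perm.mul_apply, Equiv.swap_apply_left]
  choose e he using fun l => T.exists_iso l (σ l)
  obtain ⟨p, hp⟩ := T.exists_block σ
    (fun l => if l = b then Matrix.toLin' (mat Q h) ∘ₗ e a ∘ₗ Matrix.toLin' (mat Q g) else e l) (fun l x hx => by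
      split_ifs with h1
      · subst h1
        have h2 := he a _ (hg.2.2.1 x hx)
        rw [hσa] at h2
        rw [hσb]
        refine ⟨hh.2.1 _ h2.1, ?_⟩
        simp only [LinearMap.comp_apply, Matrix.toLin'_apply]
        rw [Q_act, h2.2, Q_act]
      · exact he l x hx)
  have hpb : ∀ x ∈ D b, mat Q p *ᵥ x = mat Q h *ᵥ e a (mat Q g *ᵥ x) := fun x hx => by
    rw [hp b x hx, if_pos rfl]; simp
  have hpl : ∀ l, l ≠ b → ∀ x ∈ D l, mat Q p *ᵥ x = e l x := fun l hl x hx => by rw [hp l x hx, if_neg hl]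
  have hpg : p * g = h * p := T.ext_blocks fun l x hx => by
    rw [mv_mul, mv_mul]
    rcases eq_or_ne l b with rfl | hlb
    · rw [hpb x hx, hpl a hab _ (hg.2.2.1 x hx), ← mv_mul Q h h, hh.1, mv_one]
    rcases eq_or_ne l a with rfl | hla
    · rw [hpb _ (hg.2.1 x hx), hpl l hlb x hx, ← mv_mul Q g g, hg.1, mv_one]
    · rw [hg.2.2.2 l hla hlb x hx, hpl l hlb x hx]
      refine (hh.2.2.2 (σ l) ?_ ?_ _ (he l x hx).1).symm
      · rw [← hσa]; exact σ.injective.ne hla
      · rw [← hσb]; exact σ.injective.ne hlb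
  have : g * h = ⁅g, p⁆ := by
    rw [commutatorElement_def, inv_eq_of_mul_eq_one_left hg.1, mul_assoc g p g, hpg, mul_assoc, mul_assoc,
      mul_inv_cancel, mul_one]
  rw [this]
  exact Subgroup.commutator_mem_commutator (Subgroup.mem_top _) (Subgroup.mem_top _)

theorem refl_perms {i : Fin t} {v : ι → F} (hv : Q v ≠ 0) (hvi : v ∈ D i) : Perms Q D (refl Q v hv) :=
  ⟨1, fun l x hx => by
    show mat Q _ *ᵥ x ∈ D l
    rcases eq_or_ne i l with rfl | h
    · rw [mv_refl]; exact (D i).sub_mem hx ((D i).smul_mem _ hvi)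
    · rw [mv_refl_fix Q v hv (T.orth h hvi hx)]; exact hx⟩

end GSplit

end Cfsg.Lib.Classical.DecompGen
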