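import Cfsg.Agent.Classical.Orth.DecompGen.Good

/-! A nonsingular vector off the frame gives a root element. -/

set_option autoImplicit false
set_option linter.unusedSimpArgs false
set_option linter.unusedSectionVars false
set_option linter.unusedVariables false
set_option linter.style.haveILetI false
set_option linter.flexible false

namespace Cfsg.Lib.Classical.DecompGen

open Matrix Cfsg.Lib.Classical.Refl

universe u

variable {F : Type u} [Field F] [Fintype F] {ι : Type} [Fintype ι] [DecidableEq ι]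
variable {Q : QuadraticForm F (ι → F)} {K : Subgroup (Cfsg.isometryGroup F (⇑Q))}

theorem roots_card_le {A B C : F} (hC : C ≠ 0) :
    ∀ S : Finset F, (∀ s ∈ S, A + B * s + C * (s * s) = 0) → S.card ≤ 2 := by
  classical
  intro S hS
  by_contra h
  push Not at h
  obtain ⟨r1, r2, r3, h1, h2, h3, h12, h13, h23⟩ := Finset.two_lt_card_iff.mp h
  have f1 : B + C * (r1 + r2) = 0 :=
    (mul_eq_zero.mp (show (r1 - r2) * _ = 0 by linear_combination hS r1 h1 - hS r2 h2)).resolve_left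
      (sub_ne_zero.mpr h12)
  have f2 : B + C * (r1 + r3) = 0 :=
    (mul_eq_zero.mp (show (r1 - r3) * _ = 0 by linear_combination hS r1 h1 - hS r3 h3)).resolve_left
      (sub_ne_zero.mpr h13)
  exact hC ((mul_eq_zero.mp (show (r2 - r3) * C = 0 by linear_combination f1 - f2)).resolve_left
    (sub_ne_zero.mpr h23))

/-- Two values `A + B r²` and `A' + B' s²` cancel without vanishing. -/
theorem exists_cancel (h2 : (2 : F) ≠ 0) {A B A' B' : F} (hA : A ≠ 0) (hA' : A' ≠ 0) (hB : B ≠ 0) (hB' : B' ≠ 0)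
    (hzero : ∀ r : F, A + B * (r * r) = 0 → 7 ≤ Fintype.card F) :
    ∃ r s : F, A + B * (r * r) + (A' + B' * (s * s)) = 0 ∧ A + B * (r * r) ≠ 0 := by
  classical
  by_cases hC : A + A' = 0
  · exact ⟨0, 0, by simpa using hC, by simpa using hA⟩
  obtain ⟨r0, s0, hrs⟩ := binary_universal h2 hB hB' (-(A + A'))
  have hbase : B * (r0 * r0) + B' * (s0 * s0) = -(A + A') := by
    rw [← hrs]; ring
  by_cases hgood : A + B * (r0 * r0) = 0
  swap
  · exact ⟨r0, s0, by linear_combination hbase, hgood⟩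
  have hq := hzero r0 hgood
  have hr0 : r0 ≠ 0 := fun e => hA (by rw [e] at hgood; simpa using hgood)
  have hs0 : s0 ≠ 0 := fun e => by
    subst e
    apply hA'
    linear_combination hbase - hgood
  set P := (Finset.univ : Finset F).filter fun m => B + B' * (m * m) = 0
  obtain ⟨m, hm⟩ : ∃ m : F, m ∉ ({0, s0 / r0, -(B * r0) / (B' * s0)} : Finset F) ∪ P := by
    by_contra hcon
    push Not at hcon
    have h1 := (Finset.card_le_card (fun x _ => hcon x : (Finset.univ : Finset F) ⊆ _)).trans (Finset.card_union_le _ _)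
    have h3 : P.card ≤ 2 := roots_card_le (A := B) (B := 0) hB' P fun s hs => by
      simpa [P] using hs
    have h4 : ({0, s0 / r0, -(B * r0) / (B' * s0)} : Finset F).card ≤ 3 := Finset.card_le_three
    rw [Finset.card_univ] at h1
    omega
  simp only [Finset.mem_union, Finset.mem_insert, Finset.mem_singleton, P, Finset.mem_filter, Finset.mem_univ,
    true_and, not_or] at hm
  obtain ⟨⟨hm0, hm1, hm2⟩, hden⟩ := hm
  set l := -(2 * (B * r0 + B' * s0 * m)) / (B + B' * (m * m)) with hl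
  have hlden : l * (B + B' * (m * m)) = -(2 * (B * r0 + B' * s0 * m)) := div_mul_cancel₀ _ hden
  refine ⟨r0 + l, s0 + m * l, by linear_combination hbase + l * hlden, fun e => ?_⟩
  have h5 : B * (l * (2 * r0 + l)) = 0 := by linear_combination e - hgood
  rcases mul_eq_zero.mp ((mul_eq_zero.mp h5).resolve_left hB) with h | h
  · rw [h, zero_mul, eq_comm, neg_eq_zero] at hlden
    apply hm2
    rw [eq_div_iff (mul_ne_zero hB' hs0)]
    linear_combination (mul_eq_zero.mp hlden).resolve_left h2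
  · have h6 : 2 * B' * m * (r0 * m - s0) = 0 := by
      linear_combination (-1 : F) * hlden + (B + B' * (m * m)) * h
    rcases mul_eq_zero.mp h6 with h7 | h7
    · exact mul_ne_zero (mul_ne_zero h2 hB') hm0 h7
    · apply hm1
      rw [eq_div_iff hr0]
      linear_combination h7

namespace GSplit

variable {t k : ℕ} {D : Fin t → Submodule F (ι → F)} (T : GSplit Q k D)
include T

theorem exists_same_class (h20 : (2 : F) ≠ 0) (q : Fin t → F) (hq : ∀ i, q i ≠ 0) (S : Finset (Fin t))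
    (hS : 3 ≤ S.card) : ∃ a ∈ S, ∃ b ∈ S, a ≠ b ∧ IsSquare (q a * q b) := by
  obtain ⟨a, b, c, ha, hb, hc, hab, hac, hbc⟩ := Finset.two_lt_card_iff.mp (show 2 < S.card from hS)
  rcases exists_square_pair h20 (hq a) (hq b) (hq c) with h | h | h
  · exact ⟨a, ha, b, hb, hab, h⟩
  · exact ⟨b, hb, c, hc, hbc, h⟩
  · exact ⟨a, ha, c, hc, hac, h⟩

theorem exists_nonperp_value (hk : k = 2) {i : Fin t} {v : ι → F} (hv : v ∈ D i) (hQv : Q v ≠ 0) {μ : F}
    (hμ : μ ≠ 0) : ∃ w ∈ D i, Q w = μ ∧ w ∉ Submodule.span F {v} ∧ QuadraticMap.polar (⇑Q) v w ≠ 0 := by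
  obtain ⟨w₁, hw₁, hQw₁, hn₁⟩ : ∃ w ∈ D i, Q w = μ ∧ w ∉ Submodule.span F {v} := by
    by_contra h
    push Not at h
    obtain ⟨a, ha, hav⟩ := exists_notMem_span (W := D i) (by rw [T.finrank_eq]; exact T.two_le_dim) v
    exact hav (T.span_value i hμ _ h ha)
  by_cases h1 : QuadraticMap.polar (⇑Q) v w₁ ≠ 0
  · exact ⟨w₁, hw₁, hQw₁, hn₁, h1⟩
  push Not at h1
  obtain ⟨w₂, hw₂, hQw₂, h2⟩ : ∃ w ∈ D i, Q w = μ ∧ QuadraticMap.polar (⇑Q) v w ≠ 0 := by
    by_contra h
    push Not at h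
    obtain ⟨-, y, hy, hvy⟩ := T.nd i v hv (fun e => hQv (by rw [e, QuadraticMap.map_zero]))
    exact hvy (T.span_value i hμ (LinearMap.ker (QuadraticMap.polarBilin Q v)) h hy)
  by_cases hn₂ : w₂ ∈ Submodule.span F {v}
  · obtain ⟨r, rfl⟩ := Submodule.mem_span_singleton.mp hn₂
    have hp : QuadraticMap.polar (⇑Q) (r • v) w₁ = 0 := by rw [QuadraticMap.polar_smul_left, h1, smul_zero]
    have hne : w₁ ∉ Submodule.span F {r • v} := fun e => hn₁ (Submodule.span_singleton_smul_le F r v e)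
    obtain ⟨c, hc, hQc, hc1, hc2⟩ := T.connect hμ hw₂ hw₁ hQw₂ hQw₁ hne hp
    refine ⟨c, hc, hQc, fun e => hc2 ?_, fun e => hc1 (by rw [QuadraticMap.polar_smul_left, e, smul_zero])⟩
    obtain ⟨a, rfl⟩ := Submodule.mem_span_singleton.mp e
    rw [QuadraticMap.polar_smul_right, QuadraticMap.polar_comm, h1, smul_zero]
  · exact ⟨w₂, hw₂, hQw₂, hn₂, h2⟩

theorem exists_iso_map (hk : k = 2) {a b : Fin t} {x w : ι → F} (hx : x ∈ D a) (hw : w ∈ D b) (hQx : Q x ≠ 0)
    (hQ : Q w = Q x) :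
    ∃ f : (ι → F) →ₗ[F] (ι → F), (∀ y ∈ D a, f y ∈ D b ∧ Q (f y) = Q y) ∧ f x = w := by
  obtain ⟨f, hf⟩ := T.exists_iso a b
  obtain ⟨hfx, hQfx⟩ := hf x hx
  have hkeep : ∀ v ∈ D b, Q v ≠ 0 → ∀ z ∈ D b, Cfsg.reflectionMatrix (⇑Q) v *ᵥ z ∈ D b ∧
      Q (Cfsg.reflectionMatrix (⇑Q) v *ᵥ z) = Q z := fun v hv hQv z hz =>
    ⟨by rw [mulVec_eq]; exact (D b).sub_mem hz ((D b).smul_mem _ hv), preserve Q v hQv z⟩
  set p := QuadraticMap.polar (⇑Q) (f x) w
  have hd : Q (f x - w) = 2 * Q x - p := by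
    rw [sub_eq_add_neg, QuadraticMap.map_add (f := Q), QuadraticMap.map_neg, QuadraticMap.polar_neg_right, hQfx, hQ]
    ring
  by_cases h1 : Q (f x - w) ≠ 0
  · refine ⟨Matrix.toLin' (Cfsg.reflectionMatrix (⇑Q) (f x - w)) ∘ₗ f, fun y hy => ?_, ?_⟩
    · have := hkeep _ ((D b).sub_mem hfx hw) h1 _ (hf y hy).1
      exact ⟨this.1, this.2.trans (hf y hy).2⟩
    · rw [LinearMap.comp_apply, Matrix.toLin'_apply, mulVec_eq, QuadraticMap.polar_sub_left,
        QuadraticMap.polar_comm (⇑Q) w, polar_self_two, hQfx]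
      change f x - ((Q (f x - w))⁻¹ * (2 * Q x - p)) • (f x - w) = w
      rw [← hd, inv_mul_cancel₀ h1, one_smul, sub_sub_cancel]
  push Not at h1
  by_cases h2 : (2 : F) = 0
  · refine ⟨f, hf, ?_⟩
    have hp : p = 0 := by rw [h1, h2, zero_mul, zero_sub] at hd; exact neg_eq_zero.mp hd.symm
    obtain ⟨r, hr⟩ := Submodule.mem_span_singleton.mp (T.mem_span_of_perp hk hfx
      (fun e => hQx (by rw [← hQfx, e, QuadraticMap.map_zero])) (by rw [polar_self_two, h2, zero_mul]) hw hp)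
    have h3 : (r - 1) * (r - 1) * Q x = 0 := by
      have := congrArg Q hr
      rw [QuadraticMap.map_smul, hQfx, hQ, smul_eq_mul] at this
      linear_combination this - (r * Q x - Q x) * h2
    rw [← hr, show r = 1 from sub_eq_zero.mp (mul_self_eq_zero.mp ((mul_eq_zero.mp h3).resolve_right hQx)), one_smul]
  · have hs : Q (f x + w) = 4 * Q x := by
      rw [QuadraticMap.map_add (f := Q), hQfx, hQ]
      rw [h1] at hd
      linear_combination hd
    have h4 : Q (f x + w) ≠ 0 := by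
      rw [hs, show (4 : F) = 2 * 2 by norm_num]; exact mul_ne_zero (mul_ne_zero h2 h2) hQx
    have hw0 : Q w ≠ 0 := hQ ▸ hQx
    refine ⟨Matrix.toLin' (Cfsg.reflectionMatrix (⇑Q) w) ∘ₗ Matrix.toLin' (Cfsg.reflectionMatrix (⇑Q) (f x + w)) ∘ₗ f,
      fun y hy => ?_, ?_⟩
    · have e1 := hkeep _ ((D b).add_mem hfx hw) h4 _ (hf y hy).1
      have e2 := hkeep _ hw hw0 _ e1.1
      exact ⟨e2.1, e2.2.trans (e1.2.trans (hf y hy).2)⟩
    · simp only [LinearMap.comp_apply, Matrix.toLin'_apply]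
      have e : Cfsg.reflectionMatrix (⇑Q) (f x + w) *ᵥ f x = -w := by
        rw [mulVec_eq, QuadraticMap.polar_add_left, QuadraticMap.polar_comm (⇑Q) w, polar_self_two, hQfx]
        rw [show 2 * Q x + QuadraticMap.polar (⇑Q) (f x) w = Q (f x + w) by
          rw [hs]; rw [h1] at hd; linear_combination hd,
          inv_mul_cancel₀ h4, one_smul]
        abel
      rw [e, Matrix.mulVec_neg, Refl.self Q w hw0, neg_neg]

/-- The values reached from one vector by the vectors of a given value. -/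
theorem diff_values (hk : k = 2) (h20 : (2 : F) ≠ 0) {l : Fin t} {x : ι → F} (hx : x ∈ D l) (hQx : Q x ≠ 0) {μ : F}
    (hμ : μ ≠ 0) (hsq : IsSquare (μ * Q x)) :
    ∃ S : Finset F, (∀ v ∈ S, ∃ w ∈ D l, Q w = μ ∧ Q (w - x) = v) ∧ Fintype.card F + 1 ≤ 2 * S.card := by
  classical
  obtain ⟨s, hs⟩ := scale_value hQx hsq
  have hs' : s * s * Q x = μ := by rw [← hs, QuadraticMap.map_smul, smul_eq_mul]
  have hs0 : s ≠ 0 := fun e => hμ (by rw [← hs', e]; ring)
  obtain ⟨y, hy, hxy, hQy⟩ := orth_nonsingular (T.nd l) (by rw [T.finrank_eq, hk]) hx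
    (by rw [polar_self_two]; exact mul_ne_zero h20 hQx)
  set ν := Q y / Q x with hν
  set base := μ + Q x - 2 * s * Q x
  let val : F → F := fun b => base + 4 * s * Q x / (1 + ν * b)
  set Sq := (Finset.univ : Finset F).image fun r => r * r
  set good := Sq.filter fun b => 1 + ν * b ≠ 0
  have h4 : (4 : F) ≠ 0 := by rw [show (4 : F) = 2 * 2 by norm_num]; exact mul_ne_zero h20 h20
  refine ⟨insert base (good.image val), fun v hv => ?_, ?_⟩
  · rcases Finset.mem_insert.mp hv with rfl | hv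
    · refine ⟨s • x, (D l).smul_mem _ hx, hs, ?_⟩
      rw [show s • x - x = (s - 1) • x by module, QuadraticMap.map_smul, smul_eq_mul]
      linear_combination hs'
    obtain ⟨b, hb, rfl⟩ := Finset.mem_image.mp hv
    obtain ⟨hbS, hb0⟩ := Finset.mem_filter.mp hb
    obtain ⟨r, -, rfl⟩ := Finset.mem_image.mp hbS
    set c := x + r • y
    have hQc : Q c = Q x * (1 + ν * (r * r)) := by
      rw [QuadraticMap.map_add (f := Q), QuadraticMap.map_smul, QuadraticMap.polar_smul_right, hxy]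
      simp only [hν, smul_eq_mul, smul_zero]
      field_simp
      ring
    have hc0 : Q c ≠ 0 := hQc ▸ mul_ne_zero hQx hb0
    refine ⟨Cfsg.reflectionMatrix (⇑Q) c *ᵥ (s • x), ?_, (preserve Q c hc0 _).trans hs, ?_⟩
    · rw [mulVec_eq]
      exact (D l).sub_mem ((D l).smul_mem _ hx) ((D l).smul_mem _ ((D l).add_mem hx ((D l).smul_mem _ hy)))
    · rw [sub_eq_add_neg, QuadraticMap.map_add (f := Q), preserve Q c hc0, hs, QuadraticMap.map_neg,
        QuadraticMap.polar_neg_right, mulVec_eq, QuadraticMap.polar_sub_left, QuadraticMap.polar_smul_left,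
        QuadraticMap.polar_smul_left, polar_self_two, QuadraticMap.polar_smul_right,
        show QuadraticMap.polar (⇑Q) c x = 2 * Q x by
          rw [QuadraticMap.polar_add_left, QuadraticMap.polar_smul_left, QuadraticMap.polar_comm (⇑Q) y, hxy,
            polar_self_two, smul_zero, add_zero], hQc]
      simp only [val, base, smul_eq_mul]
      field_simp
      ring
  · have hinj : Set.InjOn val good := by
      intro b hb b' hb' e
      have hb0 := (Finset.mem_filter.mp hb).2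
      have hb'0 := (Finset.mem_filter.mp hb').2
      simp only [val, add_right_inj, div_eq_div_iff hb0 hb'0] at e
      have h5 := mul_left_cancel₀ (mul_ne_zero (mul_ne_zero h4 hs0) hQx) e
      have hν0 : ν ≠ 0 := div_ne_zero hQy hQx
      exact (mul_left_cancel₀ hν0 (by linear_combination h5)).symm
    have hnm : base ∉ good.image val := fun hm => by
      obtain ⟨b, hb, e⟩ := Finset.mem_image.mp hm
      simp only [val, add_eq_left] at e
      exact div_ne_zero (mul_ne_zero (mul_ne_zero h4 hs0) hQx) (Finset.mem_filter.mp hb).2 e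
    rw [Finset.card_insert_of_notMem hnm, Finset.card_image_of_injOn hinj]
    have hbad : (Sq.filter fun b => ¬ (1 + ν * b ≠ 0)).card ≤ 1 := Finset.card_le_one.mpr fun a ha b hb => by
      simp only [Finset.mem_filter, not_not] at ha hb
      exact mul_left_cancel₀ (div_ne_zero hQy hQx : ν ≠ 0) (by linear_combination ha.2 - hb.2)
    have hsplit := Finset.card_filter_add_card_filter_not (s := Sq) (fun b => 1 + ν * b ≠ 0)
    have hSq : Fintype.card F ≤ 2 * Sq.card := by
      rw [← Finset.card_univ]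
      refine Finset.card_le_mul_card_image _ 2 fun b hb => ?_
      obtain ⟨r, -, rfl⟩ := Finset.mem_image.mp hb
      refine (Finset.card_le_card (t := {r, -r}) fun δ hδ => ?_).trans Finset.card_le_two
      simp only [Finset.mem_filter, Finset.mem_univ, true_and] at hδ
      simpa using mul_self_eq_mul_self_iff.mp hδ
    have hodd : Fintype.card F % 2 = 1 := FiniteField.odd_card_of_char_ne_two fun h => h20 (by
      haveI := ringChar.of_eq h
      exact CharP.cast_eq_zero F 2)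
    change Fintype.card F + 1 ≤ 2 * (good.card + 1)
    change good.card + _ = Sq.card at hsplit
    omega

section K

variable (hK : ∀ g ∈ Cfsg.Omega F (⇑Q), Perms Q D g → g ∈ K)
include hK

theorem root_big (hk : 4 ≤ k) {x : ι → F} (hx : Good K D x) : ∃ u z i i' j, Root T K u z i i' j := by
  classical
  have hx0 : Q x ≠ 0 := hx.2.1
  obtain ⟨l, hl⟩ : ∃ l, Q (T.comp l x) ≠ 0 := by
    by_contra hcon
    push Not at hcon
    apply hx0
    rw [← T.sum_comp x, T.Q_sum Finset.univ id Function.injective_id.injOn _ fun l _ => T.comp_mem l x]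
    exact Finset.sum_eq_zero fun l _ => hcon l
  set xl := T.comp l x with hxl
  obtain ⟨a, ⟨ha, hap⟩, ha0, hQa⟩ := exists_singular Q (D l ⊓ HypQuad.perp Q (Submodule.span F {xl})) (by
    have h1 := Submodule.finrank_sup_add_finrank_inf_eq (D l) (HypQuad.perp Q (Submodule.span F {xl}))
    have h2 := Submodule.finrank_le (D l ⊔ HypQuad.perp Q (Submodule.span F {xl}))
    rw [HypQuad.finrank_perp Q T.nondeg, finrank_span_singleton (fun e => hl (by rw [e, QuadraticMap.map_zero])),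
      T.finrank_eq] at h1
    omega)
  have hax : QuadraticMap.polar (⇑Q) a x = 0 := by
    rw [T.form ha, ← hxl, QuadraticMap.polar_comm]
    exact (HypQuad.mem_perp Q).mp hap xl (Submodule.mem_span_singleton_self xl)
  obtain ⟨z, hz, haz, hzx⟩ : ∃ z ∈ D l, QuadraticMap.polar (⇑Q) a z = 0 ∧ QuadraticMap.polar (⇑Q) z x ≠ 0 := by
    by_contra hcon
    push Not at hcon
    obtain ⟨-, c, hc, hac⟩ := T.nd l a ha ha0
    set r := QuadraticMap.polar (⇑Q) c x / QuadraticMap.polar (⇑Q) a c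
    have he : xl = r • a := by
      by_contra hne
      obtain ⟨-, y, hy, hny⟩ := T.nd l _ ((D l).sub_mem (T.comp_mem l x) ((D l).smul_mem r ha)) (sub_ne_zero.mpr hne)
      apply hny
      have h1 := hcon (y + (-QuadraticMap.polar (⇑Q) a y / QuadraticMap.polar (⇑Q) a c) • c)
        ((D l).add_mem hy ((D l).smul_mem _ hc)) (by
          rw [QuadraticMap.polar_add_right, QuadraticMap.polar_smul_right, smul_eq_mul, div_mul_cancel₀ _ hac,
            add_neg_cancel])
      rw [QuadraticMap.polar_add_left, QuadraticMap.polar_smul_left, smul_eq_mul] at h1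
      rw [QuadraticMap.polar_sub_left, QuadraticMap.polar_smul_left, QuadraticMap.polar_comm (⇑Q) xl y, hxl,
        ← T.form hy, smul_eq_mul]
      simp only [r]
      linear_combination h1
    exact hl (by rw [he, QuadraticMap.map_smul, hQa, smul_zero])
  have hm := (T.inner_root hK ha hQa hz haz).2 hQa 1 (by rw [one_smul]; exact haz)
  have hp : Perms Q D (siegelG Q hQa (show QuadraticMap.polar (⇑Q) a ((1 : F) • z) = 0 by
      rw [one_smul]; exact haz)) := ⟨1, fun m w hw => by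
    show mat Q _ *ᵥ w ∈ D m
    rw [mat_siegelG, siegelMap]
    rcases eq_or_ne m l with rfl | hml
    · exact (D m).add_mem ((D m).add_mem hw ((D m).smul_mem _ ((D m).smul_mem _ hz))) ((D m).smul_mem _ ha)
    · rw [QuadraticMap.polar_smul_left, T.orth hml.symm ha hw, T.orth hml.symm hz hw]
      simpa using hw⟩
  have hroot := T.root_of_move hK hx hm hp (u := a) (c := -QuadraticMap.polar (⇑Q) z x) hQa hax (by
    rw [mat_siegelG, siegelMap, one_smul, hax]; simp)
  obtain ⟨j, hjl, hj⟩ := T.exists_other hx.1 l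
  exact ⟨a, _, l, l, j, hQa, ha0, hroot, fun m hm' _ => T.comp_ne hm' ha, hjl, hjl,
    by rw [map_smul]; exact smul_ne_zero (mul_ne_zero (neg_ne_zero.mpr hzx) (inv_ne_zero hx0)) hj, fun _ => rfl⟩

theorem root_of_singular_comp (hk : k = 2) {x : ι → F} (hx : Good K D x) {i : Fin t} (hi : T.comp i x ≠ 0)
    (hQi : Q (T.comp i x) = 0) : ∃ u z i i' j, Root T K u z i i' j := by
  obtain ⟨m, hm, hp, μ, hμ, hme, hfix⟩ := T.exists_rot hK hk (T.comp_mem i x) hi hQi
  have h3 := hfix (x - T.comp i x) (by rw [map_sub, T.comp_self (T.comp_mem i x), sub_self])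
  rw [Matrix.mulVec_sub, hme, sub_eq_iff_eq_add] at h3
  have hix : QuadraticMap.polar (⇑Q) (T.comp i x) x = 0 := by rw [T.form (T.comp_mem i x), perp_self Q hQi]
  have hroot := T.root_of_move hK hx hm hp (u := T.comp i x) (c := μ - 1) hQi hix (by rw [h3]; module)
  obtain ⟨j, hji, hj⟩ := T.exists_other hx.1 i
  exact ⟨_, _, i, i, j, hQi, hi, hroot, fun l hl _ => T.comp_ne hl (T.comp_mem i x), hji, hji,
    by rw [map_smul]; exact smul_ne_zero (mul_ne_zero (sub_ne_zero.mpr hμ) (inv_ne_zero hx.2.1)) hj, fun _ => rfl⟩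

/-- Three non-singular components and a spare member. -/
theorem root_of_three (hk : k = 2) {x : ι → F} (hx : Good K D x) {a b c : Fin t} (hab : a ≠ b) (hac : a ≠ c)
    (hbc : b ≠ c) (ha : Q (T.comp a x) ≠ 0) (hb : Q (T.comp b x) ≠ 0) (hc : Q (T.comp c x) ≠ 0)
    (hns : ∀ i, T.comp i x ≠ 0 → Q (T.comp i x) ≠ 0) (hspare : (2 : F) = 0 ∨ ∃ p, T.comp p x = 0) :
    ∃ u z i i' j, Root T K u z i i' j := by
  classical
  have ht := T.seven_le hk
  have hpair : ∀ i j l : Fin t, i ≠ j → l ≠ i → l ≠ j → T.comp l x ≠ 0 → T.comp i x ≠ 0 → T.comp j x ≠ 0 →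
      ∀ d ∈ D i, ∀ d' ∈ D j, QuadraticMap.polar (⇑Q) d x = 1 → QuadraticMap.polar (⇑Q) d' x = 1 →
      Q d + Q d' = 0 → Q d ≠ 0 → ∃ u z i i' j, Root T K u z i i' j := by
    intro i j l hij hli hlj hlx hix hjx d hd d' hd' hdx hd'x hsum hQd
    have hQd' : Q d' ≠ 0 := fun e => hQd (by rwa [e, add_zero] at hsum)
    obtain ⟨p, hpi, hpj, hpv⟩ : ∃ p, p ≠ i ∧ p ≠ j ∧
        ∀ μ : F, μ ≠ 0 → ∃ e ∈ D p, Q e = μ ∧ QuadraticMap.polar (⇑Q) e x = 0 := by
      rcases hspare with h2 | ⟨p, hp⟩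
      · obtain ⟨p, hp⟩ := T.exists_avoid {i, j} (Finset.card_le_two.trans_lt (by omega))
        simp only [Finset.mem_insert, Finset.mem_singleton, not_or] at hp
        refine ⟨p, hp.1, hp.2, fun μ hμ => ?_⟩
        by_cases hp0 : T.comp p x = 0
        · obtain ⟨e, he, hQe⟩ := T.exists_value p μ
          exact ⟨e, he, hQe, by rw [T.form he, hp0, QuadraticMap.polar_zero_right]⟩
        · obtain ⟨r, hr⟩ := exists_sqrt_two h2 (μ / Q (T.comp p x))
          refine ⟨r • T.comp p x, (D p).smul_mem _ (T.comp_mem p x), ?_, ?_⟩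
          · rw [QuadraticMap.map_smul, smul_eq_mul, hr, div_mul_cancel₀ _ (hns p hp0)]
          · rw [QuadraticMap.polar_smul_left, T.form (T.comp_mem p x), polar_self_two, h2, zero_mul, smul_zero]
      · refine ⟨p, fun e => hix (e ▸ hp), fun e => hjx (e ▸ hp), fun μ _ => ?_⟩
        obtain ⟨e, he, hQe⟩ := T.exists_value p μ
        exact ⟨e, he, hQe, by rw [T.form he, hp, QuadraticMap.polar_zero_right]⟩
    set ci := (-(Q d)⁻¹) • d
    set cj := (-(Q d')⁻¹) • d'
    have hQci : Q ci = (Q d)⁻¹ := by rw [QuadraticMap.map_smul, smul_eq_mul]; field_simp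
    have hQcj : Q cj = (Q d')⁻¹ := by rw [QuadraticMap.map_smul, smul_eq_mul]; field_simp
    have hcix : QuadraticMap.polar (⇑Q) ci x = -(Q d)⁻¹ := by
      rw [QuadraticMap.polar_smul_left, hdx, smul_eq_mul, mul_one]
    have hcjx : QuadraticMap.polar (⇑Q) cj x = -(Q d')⁻¹ := by
      rw [QuadraticMap.polar_smul_left, hd'x, smul_eq_mul, mul_one]
    have hci0 : Q ci ≠ 0 := hQci ▸ inv_ne_zero hQd
    have hcj0 : Q cj ≠ 0 := hQcj ▸ inv_ne_zero hQd'
    have hci : ci ∈ D i := (D i).smul_mem _ hd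
    have hcj : cj ∈ D j := (D j).smul_mem _ hd'
    obtain ⟨ei, hei, hQei, heix⟩ := hpv (Q ci) hci0
    obtain ⟨ej, hej, hQej, hejx⟩ := hpv (Q cj) hcj0
    have hei0 : Q ei ≠ 0 := hQei ▸ hci0
    have hej0 : Q ej ≠ 0 := hQej ▸ hcj0
    have hm := K.mul_mem (T.pair_mem hK hci hei hci0 hei0 hQei.symm) (T.pair_mem hK hcj hej hcj0 hej0 hQej.symm)
    have hp := perms_mul (perms_mul (T.refl_perms hci0 hci) (T.refl_perms hei0 hei))
      (perms_mul (T.refl_perms hcj0 hcj) (T.refl_perms hej0 hej))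
    have hmove : mat Q ((refl Q ci hci0 * refl Q ei hei0) * (refl Q cj hcj0 * refl Q ej hej0)) *ᵥ x =
        x + (1 : F) • (ci + cj) := by
      rw [mv_mul, mv_mul Q (refl Q cj hcj0), mv_refl_fix Q ej hej0 hejx, mv_refl, hQcj, hcjx, inv_inv,
        mul_neg, mul_inv_cancel₀ hQd', neg_smul, one_smul, sub_neg_eq_add, mv_mul,
        mv_refl_fix Q ei hei0 (by rw [QuadraticMap.polar_add_right, heix, T.orth hpj hei hcj, add_zero]),
        mv_refl, hQci, QuadraticMap.polar_add_right, hcix, T.orth hij hci hcj, add_zero, inv_inv,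
        mul_neg, mul_inv_cancel₀ hQd, neg_smul, one_smul, sub_neg_eq_add]
      module
    have hinv : (Q d)⁻¹ + (Q d')⁻¹ = 0 := by
      rw [inv_add_inv hQd hQd', hsum, zero_div]
    have hu : Q (ci + cj) = 0 := by
      rw [QuadraticMap.map_add (f := Q), hQci, hQcj, T.orth hij hci hcj, add_zero, hinv]
    have hux : QuadraticMap.polar (⇑Q) (ci + cj) x = 0 := by
      rw [QuadraticMap.polar_add_left, hcix, hcjx, ← neg_add, hinv, neg_zero]
    have hroot := T.root_of_move hK hx hm hp hu hux hmove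
    refine ⟨_, _, i, j, l, hu, fun e => hci0 ?_, hroot, fun m h1 h2 => ?_, hli, hlj, ?_, fun h => absurd h (by omega)⟩
    · have := congrArg (T.comp i) e
      rw [map_add, T.comp_self hci, T.comp_ne hij hcj, add_zero, map_zero] at this
      rw [this, QuadraticMap.map_zero]
    · rw [map_add, T.comp_ne h1 hci, T.comp_ne h2 hcj, add_zero]
    · rw [map_smul]; exact smul_ne_zero (mul_ne_zero one_ne_zero (inv_ne_zero hx.2.1)) hlx
  have ha' : T.comp a x ≠ 0 := fun e => ha (by rw [e, QuadraticMap.map_zero])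
  have hb' : T.comp b x ≠ 0 := fun e => hb (by rw [e, QuadraticMap.map_zero])
  have hc' : T.comp c x ≠ 0 := fun e => hc (by rw [e, QuadraticMap.map_zero])
  by_cases h2 : (2 : F) = 0
  · have hline : ∀ i, Q (T.comp i x) ≠ 0 → ∃ S : Finset F,
        (∀ v ∈ S, v ≠ 0 ∧ ∃ d ∈ D i, QuadraticMap.polar (⇑Q) d x = 1 ∧ Q d = v) ∧
        3 * (2 * S.card) > 2 * (Fintype.card F - 1) := by
      intro i hi
      set xi := T.comp i x with hxi
      obtain ⟨-, y, hy, hxy⟩ := T.nd i xi (T.comp_mem i x) (fun e => hi (by rw [e, QuadraticMap.map_zero]))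
      obtain ⟨d₀, hd₀, hxd⟩ : ∃ d₀ ∈ D i, QuadraticMap.polar (⇑Q) xi d₀ = 1 :=
        ⟨(QuadraticMap.polar (⇑Q) xi y)⁻¹ • y, (D i).smul_mem _ hy, by
          rw [QuadraticMap.polar_smul_right, smul_eq_mul, inv_mul_cancel₀ hxy]⟩
      let val : F → F := fun s => Q d₀ + s + Q xi * (s * s)
      have hval : ∀ s : F, Q (d₀ + s • xi) = val s := fun s => by
        rw [QuadraticMap.map_add (f := Q), QuadraticMap.map_smul, QuadraticMap.polar_smul_right,
          QuadraticMap.polar_comm (⇑Q) d₀, hxd]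
        simp only [val, smul_eq_mul, mul_one]
        ring
      have hdx : ∀ s : F, QuadraticMap.polar (⇑Q) (d₀ + s • xi) x = 1 := fun s => by
        rw [QuadraticMap.polar_add_left, QuadraticMap.polar_smul_left, T.form hd₀, T.form (T.comp_mem i x) x,
          ← hxi, polar_self_two, h2, zero_mul, smul_zero, add_zero, QuadraticMap.polar_comm, hxd]
      set U := (Finset.univ : Finset F).filter fun s => val s ≠ 0
      refine ⟨U.image val, fun v hv => ?_, ?_⟩
      · obtain ⟨s, hs, rfl⟩ := Finset.mem_image.mp hv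
        exact ⟨(Finset.mem_filter.mp hs).2, _, (D i).add_mem hd₀ ((D i).smul_mem _ (T.comp_mem i x)), hdx s, hval s⟩
      have h3 : U.card ≤ 2 * (U.image val).card := by
        refine Finset.card_le_mul_card_image _ 2 fun v hv => ?_
        exact roots_card_le (A := Q d₀ - v) (B := 1) hi _ fun s hs => by
          have := (Finset.mem_filter.mp hs).2
          simp only [val] at this
          linear_combination this
      have h4 := Finset.card_filter_add_card_filter_not (s := (Finset.univ : Finset F)) (fun s => val s ≠ 0)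
      rw [Finset.card_univ] at h4
      have h5 : ((Finset.univ : Finset F).filter fun s => ¬ val s ≠ 0).card ≤ 2 :=
        roots_card_le (A := Q d₀) (B := 1) hi _ fun s hs => by
          have := not_not.mp (Finset.mem_filter.mp hs).2
          simp only [val] at this
          linear_combination this
      have hq1 := Fintype.one_lt_card (α := F)
      change U.card + _ = _ at h4
      by_cases hroot : ∃ s, val s = 0
      · obtain ⟨s, hs⟩ := hroot
        have := T.two_plus hk i _ ((D i).add_mem hd₀ ((D i).smul_mem s (T.comp_mem i x))) (fun e => by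
          have := hdx s; rw [e, QuadraticMap.polar_zero_left] at this; exact zero_ne_one this) (by rw [hval, hs])
        omega
      · push Not at hroot
        have : ((Finset.univ : Finset F).filter fun s => ¬ val s ≠ 0).card = 0 := by
          simpa [Finset.card_eq_zero, Finset.filter_eq_empty_iff] using hroot
        omega
    obtain ⟨Sa, hSa, hca⟩ := hline a ha
    obtain ⟨Sb, hSb, hcb⟩ := hline b hb
    obtain ⟨Sc, hSc, hcc⟩ := hline c hc
    have hcommon : ∀ (i j l : Fin t) (Si Sj : Finset F), i ≠ j → l ≠ i → l ≠ j → T.comp l x ≠ 0 → T.comp i x ≠ 0 →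
        T.comp j x ≠ 0 →
        (∀ v ∈ Si, v ≠ 0 ∧ ∃ d ∈ D i, QuadraticMap.polar (⇑Q) d x = 1 ∧ Q d = v) →
        (∀ v ∈ Sj, v ≠ 0 ∧ ∃ d ∈ D j, QuadraticMap.polar (⇑Q) d x = 1 ∧ Q d = v) →
        ¬ Disjoint Si Sj → ∃ u z i i' j, Root T K u z i i' j := by
      intro i j l Si Sj hij hli hlj hlx hix hjx hi hj hd
      obtain ⟨v, hv, hv'⟩ := Finset.not_disjoint_iff.mp hd
      obtain ⟨hv0, d, hd, hdx, hQd⟩ := hi v hv
      obtain ⟨-, d', hd', hd'x, hQd'⟩ := hj v hv'
      exact hpair i j l hij hli hlj hlx hix hjx d hd d' hd' hdx hd'x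
        (by rw [hQd, hQd', ← two_mul, h2, zero_mul]) (hQd ▸ hv0)
    by_cases hab' : Disjoint Sa Sb
    swap
    · exact hcommon a b c Sa Sb hab hac.symm hbc.symm hc' ha' hb' hSa hSb hab'
    by_cases hac' : Disjoint Sa Sc
    swap
    · exact hcommon a c b Sa Sc hac hab.symm hbc hb' ha' hc' hSa hSc hac'
    by_cases hbc' : Disjoint Sb Sc
    swap
    · exact hcommon b c a Sb Sc hbc hab hac ha' hb' hc' hSb hSc hbc'
    exfalso
    have hu := Finset.card_union_of_disjoint (Finset.disjoint_union_left.mpr ⟨hac', hbc'⟩)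
    rw [Finset.card_union_of_disjoint hab'] at hu
    have hle : (Sa ∪ Sb ∪ Sc) ⊆ (Finset.univ : Finset F).erase 0 := fun v hv => by
      simp only [Finset.mem_union] at hv
      refine Finset.mem_erase.mpr ⟨?_, Finset.mem_univ v⟩
      rcases hv with (hv | hv) | hv
      · exact (hSa v hv).1
      · exact (hSb v hv).1
      · exact (hSc v hv).1
    have := Finset.card_le_card hle
    rw [Finset.card_erase_of_mem (Finset.mem_univ _), Finset.card_univ] at this
    omega
  · set xa := T.comp a x with hxa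
    set xb := T.comp b x with hxb
    obtain ⟨ya, hya, hxya, hQya⟩ := orth_nonsingular (T.nd a) (by rw [T.finrank_eq, hk]) (T.comp_mem a x)
      (by rw [polar_self_two]; exact mul_ne_zero h2 ha)
    obtain ⟨yb, hyb, hxyb, hQyb⟩ := orth_nonsingular (T.nd b) (by rw [T.finrank_eq, hk]) (T.comp_mem b x)
      (by rw [polar_self_two]; exact mul_ne_zero h2 hb)
    have hval : ∀ (i : Fin t) (y : ι → F), y ∈ D i → QuadraticMap.polar (⇑Q) (T.comp i x) y = 0 →
        Q (T.comp i x) ≠ 0 → ∀ r : F,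
        (2 * Q (T.comp i x))⁻¹ • T.comp i x + r • y ∈ D i ∧
        QuadraticMap.polar (⇑Q) ((2 * Q (T.comp i x))⁻¹ • T.comp i x + r • y) x = 1 ∧
        Q ((2 * Q (T.comp i x))⁻¹ • T.comp i x + r • y) = (4 * Q (T.comp i x))⁻¹ + Q y * (r * r) := by
      intro i y hy hxy hi r
      refine ⟨(D i).add_mem ((D i).smul_mem _ (T.comp_mem i x)) ((D i).smul_mem _ hy), ?_, ?_⟩
      · rw [QuadraticMap.polar_add_left, QuadraticMap.polar_smul_left, QuadraticMap.polar_smul_left, T.form hy x,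
          QuadraticMap.polar_comm (⇑Q) y, hxy, smul_zero, add_zero, T.form (T.comp_mem i x) x, polar_self_two,
          smul_eq_mul, inv_mul_cancel₀ (mul_ne_zero h2 hi)]
      · rw [val_lin Q hxy, show (4 : F) * Q (T.comp i x) = 2 * (2 * Q (T.comp i x)) by ring]
        field_simp
    have h4 : (4 : F) ≠ 0 := by rw [show (4 : F) = 2 * 2 by norm_num]; exact mul_ne_zero h2 h2
    obtain ⟨r, s, hsum, hne⟩ := exists_cancel h2 (A := (4 * Q xa)⁻¹) (A' := (4 * Q xb)⁻¹)
      (inv_ne_zero (mul_ne_zero h4 ha)) (inv_ne_zero (mul_ne_zero h4 hb)) hQya hQyb fun r hr => by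
        obtain ⟨h1, h3, h5⟩ := hval a ya hya hxya ha r
        exact T.two_plus hk a _ h1 (fun e => by rw [e, QuadraticMap.polar_zero_left] at h3; exact zero_ne_one h3)
          (h5.trans hr)
    obtain ⟨h1, h3, h5⟩ := hval a ya hya hxya ha r
    obtain ⟨h1', h3', h5'⟩ := hval b yb hyb hxyb hb s
    exact hpair a b c hab hac.symm hbc.symm hc' ha' hb' _ h1 _ h1' h3 h3' (by rw [h5, h5']; exact hsum)
      (by rw [h5]; exact hne)

/-- A third component. -/
theorem extend_two (hk : k = 2) {x : ι → F} (hx : Good K D x) {a b : Fin t} (hab : a ≠ b)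
    (hrest : ∀ l, l ≠ a → l ≠ b → T.comp l x = 0) (ha : Q (T.comp a x) ≠ 0) (hb : Q (T.comp b x) ≠ 0) :
    ∃ y, Good K D y ∧ ∃ p q : Fin t, p ≠ a ∧ p ≠ b ∧ q ≠ a ∧ q ≠ b ∧ q ≠ p ∧ T.comp a y ≠ 0 ∧ T.comp b y ≠ 0 ∧
      T.comp p y ≠ 0 ∧ T.comp q y = 0 := by
  have ht := T.seven_le hk
  obtain ⟨p, hp⟩ := T.exists_avoid {a, b} (Finset.card_le_two.trans_lt (by omega))
  simp only [Finset.mem_insert, Finset.mem_singleton, not_or] at hp
  obtain ⟨q, hq⟩ := T.exists_avoid {a, b, p} (Finset.card_le_three.trans_lt (by omega))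
  simp only [Finset.mem_insert, Finset.mem_singleton, not_or] at hq
  obtain ⟨w, hw, hQw, hwsp, hbw⟩ := T.exists_nonperp_value hk (T.comp_mem b x) hb ha
  obtain ⟨f, hf, hfx⟩ := T.exists_iso_map hk (T.comp_mem a x) hw ha hQw
  obtain ⟨f', hf'⟩ := T.exists_iso b p
  obtain ⟨g₁, hg₁, hg₁a⟩ := T.exists_swap hab f hf
  obtain ⟨g₂, hg₂, hg₂b⟩ := T.exists_swap (Ne.symm hp.2) f' hf'
  have hm := T.swaps_mem hK hab (Ne.symm hp.2) hg₁ hg₂
  have hmp := perms_mul (IsSwap.perms T hg₁) (IsSwap.perms T hg₂)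
  set v := mat Q g₂ *ᵥ T.comp b x
  have hv : v ∈ D p := hg₂.2.1 _ (T.comp_mem b x)
  have hxsum := T.pair_split hab hrest
  have hmx : mat Q (g₁ * g₂) *ᵥ x = w + v := by
    conv_lhs => rw [← hxsum]
    rw [mv_mul, Matrix.mulVec_add, hg₂.2.2.2 a hab (Ne.symm hp.1) _ (T.comp_mem a x), Matrix.mulVec_add,
      hg₁a _ (T.comp_mem a x), hfx, hg₁.2.2.2 p hp.1 hp.2 v hv]
  have hx0 : Q x ≠ 0 := hx.2.1
  have hxx' : QuadraticMap.polar (⇑Q) x (w + v) = QuadraticMap.polar (⇑Q) (T.comp b x) w := by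
    rw [QuadraticMap.polar_comm, QuadraticMap.polar_add_left, T.form hw, T.form hv, hrest p hp.1 hp.2,
      QuadraticMap.polar_zero_right, add_zero, QuadraticMap.polar_comm]
  set y := mat Q (refl Q x hx0) *ᵥ (mat Q (g₁ * g₂) *ᵥ x) with hy
  set c := (Q x)⁻¹ * QuadraticMap.polar (⇑Q) (T.comp b x) w
  have hc : c ≠ 0 := mul_ne_zero (inv_ne_zero hx0) hbw
  have hye : y = w + v - c • x := by rw [hy, hmx, mv_refl, hxx']
  have ha0 : T.comp a y ≠ 0 := by
    rw [hye, map_sub, map_add, map_smul, T.comp_ne hab hw, T.comp_ne (Ne.symm hp.1) hv, add_zero, zero_sub,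
      neg_ne_zero]
    exact smul_ne_zero hc (fun e => ha (by rw [e, QuadraticMap.map_zero]))
  have hb0 : T.comp b y ≠ 0 := by
    rw [hye, map_sub, map_add, map_smul, T.comp_self hw, T.comp_ne (Ne.symm hp.2) hv, add_zero, sub_ne_zero]
    exact fun e => hwsp (Submodule.mem_span_singleton.mpr ⟨c, e.symm⟩)
  have hp0 : T.comp p y ≠ 0 := by
    rw [hye, map_sub, map_add, map_smul, T.comp_ne hp.2 hw, T.comp_self hv, hrest p hp.1 hp.2, smul_zero, zero_add,
      sub_zero]
    exact fun e => hb (by rw [← Q_act Q g₂]; change Q v = 0; rw [e, QuadraticMap.map_zero])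
  refine ⟨y, T.good_turn hK hx (T.good_map hK hx hm hmp) (Q_act Q _ x).symm hx0 (T.notMem_of_two hab ha0 hb0),
    p, q, hp.1, hp.2, hq.1, hq.2.1, hq.2.2, ha0, hb0, hp0, ?_⟩
  rw [hye, map_sub, map_add, map_smul, T.comp_ne hq.2.1 hw, T.comp_ne hq.2.2 hv, hrest q hq.1 hq.2.1]
  simp

/-- A zero component. -/
theorem free_member (hk : k = 2) (h20 : (2 : F) ≠ 0) {x : ι → F} (hx : Good K D x)
    (hall : ∀ i, Q (T.comp i x) ≠ 0) : ∃ y, Good K D y ∧ ∃ o, T.comp o y = 0 := by
  classical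
  have ht := T.seven_le hk
  obtain ⟨j, -, l, -, hjl, hsq⟩ := T.exists_same_class h20 (fun i => Q (T.comp i x)) hall Finset.univ
    (by rw [Finset.card_univ, Fintype.card_fin]; omega)
  obtain ⟨m, hm, p, hp, hmp, hsq'⟩ := T.exists_same_class h20 (fun i => Q (T.comp i x)) hall
    ((Finset.univ.erase j).erase l) (by
      rw [Finset.card_erase_of_mem (by simp [hjl.symm]), Finset.card_erase_of_mem (Finset.mem_univ _),
        Finset.card_univ, Fintype.card_fin]
      omega)
  simp only [Finset.mem_erase, Finset.mem_univ, and_true] at hm hp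
  obtain ⟨S, hS, hScard⟩ := T.diff_values hk h20 (T.comp_mem l x) (hall l) (hall j) hsq
  obtain ⟨S', hS', hS'card⟩ := T.diff_values hk h20 (T.comp_mem p x) (hall p) (hall m) hsq'
  have hx0 : Q x ≠ 0 := hx.2.1
  obtain ⟨v, hv, v', hv', hvv⟩ : ∃ v ∈ S, ∃ v' ∈ S', 2 * (v + v') = Q x := by
    by_contra hcon
    push Not at hcon
    set R := S'.image fun v => Q x / 2 - v
    have hR : R.card = S'.card := Finset.card_image_of_injective _ fun a b e => sub_right_injective e
    have hd : Disjoint S R := Finset.disjoint_left.mpr fun v hv hv2 => by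
      obtain ⟨v', hv', rfl⟩ := Finset.mem_image.mp hv2
      exact hcon _ hv v' hv' (by rw [sub_add_cancel, mul_div_cancel₀ _ h20])
    have := Finset.card_le_univ (S ∪ R)
    rw [Finset.card_union_of_disjoint hd, hR] at this
    omega
  obtain ⟨w, hw, hQw, hwv⟩ := hS v hv
  obtain ⟨w', hw', hQw', hwv'⟩ := hS' v' hv'
  obtain ⟨f, hf, hfx⟩ := T.exists_iso_map hk (T.comp_mem j x) hw (hall j) hQw
  obtain ⟨f', hf', hf'x⟩ := T.exists_iso_map hk (T.comp_mem m x) hw' (hall m) hQw'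
  obtain ⟨g₁, hg₁, hg₁j⟩ := T.exists_swap hjl f hf
  obtain ⟨g₂, hg₂, hg₂m⟩ := T.exists_swap hmp f' hf'
  have hmem := T.swaps_mem hK hjl hmp hg₁ hg₂
  have hperm := perms_mul (IsSwap.perms T hg₁) (IsSwap.perms T hg₂)
  set mx := mat Q (g₁ * g₂) *ᵥ x with hmx
  obtain ⟨σ, hσ⟩ := hperm
  have hcomp : ∀ (c d : Fin t) (z : ι → F), z ∈ D d → mat Q (g₁ * g₂) *ᵥ T.comp c x = z → z ≠ 0 →
      T.comp d mx = z := by
    intro c d z hz e hz0
    have hd : d = σ c := by
      by_contra hne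
      apply hz0
      rw [← T.comp_self hz, T.comp_ne hne (e ▸ hσ c _ (T.comp_mem c x))]
    rw [hd, hmx, T.comp_perm hσ, e]
  have hne : ∀ c, T.comp c x ≠ 0 := fun c e => hall c (by rw [e, QuadraticMap.map_zero])
  have hin : ∀ (c : Fin t), mat Q (g₁ * g₂) *ᵥ T.comp c x ≠ 0 := fun c e =>
    hne c (mv_injective Q _ (e.trans (Matrix.mulVec_zero _).symm))
  have e1 : mat Q (g₁ * g₂) *ᵥ T.comp j x = w := by
    rw [mv_mul, hg₂.2.2.2 j (Ne.symm hm.2) (Ne.symm hp.2) _ (T.comp_mem j x), hg₁j _ (T.comp_mem j x), hfx]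
  have e2 : mat Q (g₁ * g₂) *ᵥ T.comp l x = mat Q g₁ *ᵥ T.comp l x := by
    rw [mv_mul, hg₂.2.2.2 l (Ne.symm hm.1) (Ne.symm hp.1) _ (T.comp_mem l x)]
  have e3 : mat Q (g₁ * g₂) *ᵥ T.comp m x = w' := by
    rw [mv_mul, hg₂m _ (T.comp_mem m x), hf'x, hg₁.2.2.2 p hp.2 hp.1 w' hw']
  have e4 : mat Q (g₁ * g₂) *ᵥ T.comp p x = mat Q g₂ *ᵥ T.comp p x := by
    rw [mv_mul, hg₁.2.2.2 m hm.2 hm.1 _ (hg₂.2.2.1 _ (T.comp_mem p x))]
  have cl : T.comp l mx = w := hcomp j l w hw e1 (e1 ▸ hin j)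
  have cj : T.comp j mx = mat Q g₁ *ᵥ T.comp l x :=
    hcomp l j _ (hg₁.2.2.1 _ (T.comp_mem l x)) e2 (e2 ▸ hin l)
  have cp : T.comp p mx = w' := hcomp m p w' hw' e3 (e3 ▸ hin m)
  have cm : T.comp m mx = mat Q g₂ *ᵥ T.comp p x :=
    hcomp p m _ (hg₂.2.2.1 _ (T.comp_mem p x)) e4 (e4 ▸ hin p)
  have co : ∀ o, o ≠ j → o ≠ l → o ≠ m → o ≠ p → T.comp o mx = T.comp o x := by
    intro o h1 h2 h3 h4
    have e5 : mat Q (g₁ * g₂) *ᵥ T.comp o x = T.comp o x := by
      rw [mv_mul, hg₂.2.2.2 o h3 h4 _ (T.comp_mem o x), hg₁.2.2.2 o h1 h2 _ (T.comp_mem o x)]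
    exact hcomp o o _ (T.comp_mem o x) e5 (hne o)
  have hsym : ∀ (g : Cfsg.isometryGroup F (⇑Q)) (c d : Fin t), IsSwap Q D c d g → ∀ z z' : ι → F,
      mat Q g *ᵥ z = z' → ∀ e, Q (mat Q g *ᵥ e - z) = Q (z' - e) := by
    intro g c d hg z z' hz e
    have : mat Q g *ᵥ z' = z := by rw [← hz, ← mv_mul, hg.1, mv_one]
    calc Q (mat Q g *ᵥ e - z) = Q (mat Q g *ᵥ (e - z')) := by rw [Matrix.mulVec_sub, this]
      _ = Q (z' - e) := by rw [Q_act, ← neg_sub z' e, QuadraticMap.map_neg]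
  have hd : Q (mx - x) = Q x := by
    rw [← hvv, ← T.sum_comp (mx - x),
      T.Q_sum Finset.univ id Function.injective_id.injOn _ fun o _ => T.comp_mem o (mx - x)]
    rw [← Finset.sum_subset (Finset.subset_univ ({j, l, m, p} : Finset (Fin t))) (fun o _ ho => by
      simp only [Finset.mem_insert, Finset.mem_singleton, not_or] at ho
      rw [map_sub, co o ho.1 ho.2.1 ho.2.2.1 ho.2.2.2, sub_self, QuadraticMap.map_zero])]
    rw [Finset.sum_insert (by simp [hjl, Ne.symm hm.2, Ne.symm hp.2]),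
      Finset.sum_insert (by simp [Ne.symm hm.1, Ne.symm hp.1]), Finset.sum_pair hmp]
    simp only [map_sub, cl, cj, cp, cm]
    rw [hsym g₁ j l hg₁ _ w (by rw [hg₁j _ (T.comp_mem j x), hfx]),
      hsym g₂ m p hg₂ _ w' (by rw [hg₂m _ (T.comp_mem m x), hf'x]), hwv, hwv']
    ring
  have hmxx : QuadraticMap.polar (⇑Q) mx x = Q x := by
    rw [sub_eq_add_neg, QuadraticMap.map_add (f := Q), QuadraticMap.map_neg, QuadraticMap.polar_neg_right, hmx,
      Q_act, ← hmx] at hd
    linear_combination -hd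
  have hmx0 : Q mx ≠ 0 := by rw [hmx, Q_act]; exact hx0
  have hy : mat Q (refl Q mx hmx0) *ᵥ x = x - mx := by
    rw [mv_refl, hmxx, show Q mx = Q x from Q_act Q _ x, inv_mul_cancel₀ hx0, one_smul]
  have hpairne : (v ≠ 0 → T.comp j (x - mx) ≠ 0 ∧ T.comp l (x - mx) ≠ 0) ∧
      (v' ≠ 0 → T.comp m (x - mx) ≠ 0 ∧ T.comp p (x - mx) ≠ 0) := by
    refine ⟨fun h => ⟨fun e => h ?_, fun e => h ?_⟩, fun h => ⟨fun e => h ?_, fun e => h ?_⟩⟩
    · rw [← hwv, ← hsym g₁ j l hg₁ _ w (by rw [hg₁j _ (T.comp_mem j x), hfx]), ← cj, ← neg_sub, QuadraticMap.map_neg,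
        ← map_sub, e, QuadraticMap.map_zero]
    · rw [← hwv, ← cl, ← neg_sub, QuadraticMap.map_neg, ← map_sub, e, QuadraticMap.map_zero]
    · rw [← hwv', ← hsym g₂ m p hg₂ _ w' (by rw [hg₂m _ (T.comp_mem m x), hf'x]), ← cm, ← neg_sub,
        QuadraticMap.map_neg, ← map_sub, e, QuadraticMap.map_zero]
    · rw [← hwv', ← cp, ← neg_sub, QuadraticMap.map_neg, ← map_sub, e, QuadraticMap.map_zero]
  have hoff : ∀ i, x - mx ∉ D i := by
    by_cases h0 : v = 0
    · have : v' ≠ 0 := fun e => hx0 (by rw [← hvv, h0, e]; ring)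
      exact T.notMem_of_two hmp (hpairne.2 this).1 (hpairne.2 this).2
    · exact T.notMem_of_two hjl (hpairne.1 h0).1 (hpairne.1 h0).2
  have hgood := T.good_turn hK (T.good_map hK hx hmem ⟨σ, hσ⟩) hx (Q_act Q _ x) hmx0 (fun i => by rw [hy]; exact hoff i)
  rw [hy] at hgood
  obtain ⟨o, ho⟩ := T.exists_avoid {j, l, m, p} (Finset.card_le_four.trans_lt (by omega))
  simp only [Finset.mem_insert, Finset.mem_singleton, not_or] at ho
  exact ⟨x - mx, hgood, o, by rw [map_sub, co o ho.1 ho.2.1 ho.2.2.1 ho.2.2.2, sub_self]⟩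

theorem root_of_good {x : ι → F} (hx : Good K D x) : ∃ u z i i' j, Root T K u z i i' j := by
  classical
  rcases T.dim with hk | hk
  swap
  · exact T.root_big hK hk hx
  by_cases hs : ∃ y, Good K D y ∧ ∃ i, T.comp i y ≠ 0 ∧ Q (T.comp i y) = 0
  · obtain ⟨y, hy, i, hi, hQi⟩ := hs
    exact T.root_of_singular_comp hK hk hy hi hQi
  push Not at hs
  have hnz : ∀ y, Good K D y → ∀ i, Q (T.comp i y) ≠ 0 ↔ T.comp i y ≠ 0 := fun y hy i =>
    ⟨fun h e => h (by rw [e, QuadraticMap.map_zero]), hs y hy i⟩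
  have hfinish : ∀ y, Good K D y → ((2 : F) = 0 ∨ ∃ o, T.comp o y = 0) → ∃ u z i i' j, Root T K u z i i' j := by
    intro y hy hspare
    obtain ⟨a, ha⟩ := T.exists_comp (v := y) (fun e => hy.2.1 (by rw [e, QuadraticMap.map_zero]))
    obtain ⟨b, hba, hb⟩ := T.exists_other hy.1 a
    by_cases h3 : ∃ c, c ≠ a ∧ c ≠ b ∧ T.comp c y ≠ 0
    · obtain ⟨c, hca, hcb, hc⟩ := h3
      exact T.root_of_three hK hk hy hba.symm hca.symm hcb.symm (hs y hy a ha) (hs y hy b hb) (hs y hy c hc)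
        (hs y hy) hspare
    push Not at h3
    obtain ⟨y', hy', p, q, hpa, hpb, -, -, -, ha', hb', hp', hq'⟩ :=
      T.extend_two hK hk hy hba.symm (fun l h1 h2 => h3 l h1 h2) (hs y hy a ha) (hs y hy b hb)
    exact T.root_of_three hK hk hy' hba.symm hpa.symm hpb.symm (hs y' hy' a ha') (hs y' hy' b hb') (hs y' hy' p hp')
      (hs y' hy') (Or.inr ⟨q, hq'⟩)
  by_cases h2 : (2 : F) = 0
  · exact hfinish x hx (Or.inl h2)
  by_cases hzero : ∃ o, T.comp o x = 0
  · exact hfinish x hx (Or.inr hzero)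
  push Not at hzero
  obtain ⟨y, hy, o, ho⟩ := T.free_member hK hk h2 hx fun i => hs x hx i (hzero i)
  exact hfinish y hy (Or.inr ⟨o, ho⟩)

end K

end GSplit

end Cfsg.Lib.Classical.DecompGen
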