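import Cfsg.Agent.Classical.Orth.DecompGen.Root

/-! An element off the stabiliser of a decomposition gives a root element or a nonsingular vector off the frame. -/

set_option autoImplicit false
set_option linter.unusedSimpArgs false
set_option linter.unusedSectionVars false
set_option linter.style.haveILetI false
set_option linter.flexible false

namespace Cfsg.Lib.Classical.DecompGen

open Matrix Cfsg.Lib.Classical.Refl

universe u

variable {F : Type u} [Field F] [Fintype F] {ι : Type} [Fintype ι] [DecidableEq ι]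
variable {Q : QuadraticForm F (ι → F)} {K : Subgroup (Cfsg.isometryGroup F (⇑Q))}

/-- A vector off the members whose reflection is congruent to those of the members modulo `K`. -/
def Good (K : Subgroup (Cfsg.isometryGroup F (⇑Q))) {t : ℕ} (D : Fin t → Submodule F (ι → F)) (x : ι → F) : Prop :=
  (∀ i, x ∉ D i) ∧ ∃ h : Q x ≠ 0, ∀ i, ∀ f ∈ D i, ∀ hf : Q f ≠ 0, Q f = Q x → refl Q x h * refl Q f hf ∈ K

theorem exists_square_pair (h2 : (2 : F) ≠ 0) {a b c : F} (ha : a ≠ 0) (hb : b ≠ 0) (hc : c ≠ 0) :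
    IsSquare (a * b) ∨ IsSquare (b * c) ∨ IsSquare (a * c) := by
  classical
  have hF : ringChar F ≠ 2 := fun h => h2 (by
    haveI := ringChar.of_eq h
    exact CharP.cast_eq_zero F 2)
  by_cases h1 : IsSquare (a * b)
  · exact Or.inl h1
  by_cases h3 : IsSquare (b * c)
  · exact Or.inr (Or.inl h3)
  refine Or.inr (Or.inr ((quadraticChar_one_iff_isSquare (mul_ne_zero ha hc)).mp ?_))
  have e1 := quadraticChar_neg_one_iff_not_isSquare.mpr h1
  have e2 := quadraticChar_neg_one_iff_not_isSquare.mpr h3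
  have e : quadraticChar F (a * b) * quadraticChar F (b * c) = quadraticChar F (a * c) := by
    rw [map_mul, map_mul, map_mul, ← mul_one (quadraticChar F a * quadraticChar F c), ← quadraticChar_sq_one hb]
    ring
  rw [← e, e1, e2]; norm_num

theorem scale_value {v : ι → F} (hv : Q v ≠ 0) {μ : F} (h : IsSquare (μ * Q v)) : ∃ r : F, Q (r • v) = μ := by
  obtain ⟨r, hr⟩ := h
  refine ⟨r / Q v, ?_⟩
  rw [QuadraticMap.map_smul, smul_eq_mul, div_mul_div_comm, ← hr]
  field_simp

namespace GSplit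

variable {t k : ℕ} {D : Fin t → Submodule F (ι → F)} (T : GSplit Q k D)
include T

theorem plane_span (hk : k = 2) {a : Fin t} {b b' : ι → F} (hb : b ∈ D a) (hb' : b' ∈ D a) (hb0 : b ≠ 0)
    (hne : b' ∉ Submodule.span F {b}) : D a ≤ Submodule.span F ({b, b'} : Set (ι → F)) := by
  have hli : LinearIndependent F ![b, b'] := (LinearIndependent.pair_iff' hb0).mpr fun r hr =>
    hne (Submodule.mem_span_singleton.mpr ⟨r, hr⟩)
  have h := finrank_span_eq_card hli
  rw [Matrix.range_cons_cons_empty] at h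
  simp only [Fintype.card_fin] at h
  exact (Submodule.eq_of_le_of_finrank_le (Submodule.span_le.mpr (by rintro x (rfl | rfl) <;> assumption))
    (by rw [h, T.finrank_eq, hk])).ge

theorem exists_side (hk : k = 2) {i : Fin t} {e : ι → F} (he : e ∈ D i) (hQe : Q e ≠ 0) :
    ∃ w ∈ D i, Q w ≠ 0 ∧ QuadraticMap.polar (⇑Q) w e = 0 := by
  by_cases h2 : (2 : F) = 0
  · exact ⟨e, he, hQe, by rw [polar_self_two, h2, zero_mul]⟩
  · obtain ⟨w, hw, hew, hQw⟩ := orth_nonsingular (T.nd i) (by rw [T.finrank_eq, hk]) he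
      (by rw [polar_self_two]; exact mul_ne_zero h2 hQe)
    exact ⟨w, hw, hQw, by rw [QuadraticMap.polar_comm]; exact hew⟩

theorem exists_singular_pair (hk : k = 2) {i : Fin t} {s : ι → F} (hs : s ∈ D i) (hs0 : s ≠ 0) (hQs : Q s = 0) :
    ∃ p ∈ D i, Q p = 0 ∧ QuadraticMap.polar (⇑Q) s p = 1 := by
  obtain ⟨-, y, hy, hsy⟩ := T.nd i s hs hs0
  obtain ⟨y', hy', h1⟩ : ∃ y' ∈ D i, QuadraticMap.polar (⇑Q) s y' = 1 :=
    ⟨(QuadraticMap.polar (⇑Q) s y)⁻¹ • y, (D i).smul_mem _ hy, by
      rw [QuadraticMap.polar_smul_right, smul_eq_mul, inv_mul_cancel₀ hsy]⟩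
  refine ⟨y' + (-Q y') • s, (D i).add_mem hy' ((D i).smul_mem _ hs), ?_, ?_⟩
  · rw [QuadraticMap.map_add (f := Q), QuadraticMap.map_smul, hQs, QuadraticMap.polar_smul_right,
      QuadraticMap.polar_comm (⇑Q) y' s, h1]
    simp
  · rw [QuadraticMap.polar_add_right, QuadraticMap.polar_smul_right, perp_self Q hQs, h1, smul_zero, add_zero]

/-- A permutation with two-dimensional moved space. -/
theorem perms_moved {h : Cfsg.isometryGroup F (⇑Q)} (hh : Perms Q D h) (W : Submodule F (ι → F))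
    (hW : Module.finrank F W ≤ 2) (hr : ∀ x, mat Q h *ᵥ x - x ∈ W) (x : ι → F) :
    (4 ≤ k → ∀ l, T.comp l (mat Q h *ᵥ x - x) ∈ W) ∧
      ∃ a b, ∀ l, l ≠ a → l ≠ b → T.comp l (mat Q h *ᵥ x - x) = 0 := by
  classical
  obtain ⟨σ, hσ⟩ := hh
  have hinj : ∀ l, σ l ≠ l → ∀ y ∈ D l, mat Q h *ᵥ y - y = 0 → y = 0 := fun l hl y hy e => by
    rw [← T.comp_self hy, show y = mat Q h *ᵥ y from (sub_eq_zero.mp e).symm, T.comp_ne (Ne.symm hl) (hσ l y hy)]
  have hdim : ∀ l, σ l ≠ l → k ≤ 2 ∧
      W ≤ Submodule.map (Matrix.toLin' (mat Q h) - LinearMap.id) (D l) := by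
    intro l hl
    set L := Matrix.toLin' (mat Q h) - LinearMap.id with hL
    have hdj : Disjoint (D l) (LinearMap.ker L) := Submodule.disjoint_def.mpr fun y hy hy' =>
      hinj l hl y hy (by simpa [hL, sub_eq_zero] using hy')
    have hle : Submodule.map L (D l) ≤ W := by
      rintro _ ⟨y, -, rfl⟩
      simpa [hL] using hr y
    have hf : Module.finrank F (Submodule.map L (D l)) = k := by
      have h1 : Function.Injective (L.domRestrict (D l)) := by
        refine (injective_iff_map_eq_zero _).mpr fun y hy => Subtype.ext ?_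
        exact Submodule.disjoint_def.mp hdj y y.2 hy
      rw [← T.finrank_eq l, ← LinearMap.finrank_range_of_inj h1, LinearMap.range_domRestrict]
    have := Submodule.finrank_mono hle
    exact ⟨by omega, (Submodule.eq_of_le_of_finrank_le hle (by have := T.two_le_dim; omega)).ge⟩
  by_cases hfix : ∀ l, σ l = l
  · have hc : ∀ l, T.comp l (mat Q h *ᵥ x - x) ∈ W := fun l => by
      rw [map_sub]
      nth_rewrite 1 [← hfix l]
      rw [T.comp_perm hσ]
      exact hr _
    refine ⟨fun _ => hc, ?_⟩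
    by_contra hcon
    push Not at hcon
    have i0 : Fin t := ⟨0, by have := T.two_le; omega⟩
    obtain ⟨a, -, -, ha⟩ := hcon i0 i0
    obtain ⟨b, hba, -, hb⟩ := hcon a a
    obtain ⟨c, hca, hcb, hc'⟩ := hcon a b
    set v := mat Q h *ᵥ x - x
    have hli : LinearIndependent F ![T.comp a v, T.comp b v] := (LinearIndependent.pair_iff' ha).mpr fun r hr' => hb (by
      rw [← T.comp_self (T.comp_mem b v), ← hr', map_smul, T.comp_ne hba (T.comp_mem a v), smul_zero])
    have hs : Submodule.span F (Set.range ![T.comp a v, T.comp b v]) = W :=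
      Submodule.eq_of_le_of_finrank_le (Submodule.span_le.mpr (by rintro _ ⟨j, rfl⟩; fin_cases j <;> exact hc _))
        (by rw [finrank_span_eq_card hli]; simpa using hW)
    have hmem := hc c
    rw [← hs, Matrix.range_cons_cons_empty, Submodule.mem_span_pair] at hmem
    obtain ⟨α, β, hαβ⟩ := hmem
    apply hc'
    rw [← T.comp_self (T.comp_mem c v), ← hαβ, map_add, map_smul, map_smul, T.comp_ne hca (T.comp_mem a v),
      T.comp_ne hcb (T.comp_mem b v), smul_zero, smul_zero, add_zero]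
  · push Not at hfix
    obtain ⟨l, hl⟩ := hfix
    obtain ⟨hk, hle⟩ := hdim l hl
    refine ⟨fun hk' => absurd hk' (by omega), σ l, l, fun m hm hm' => ?_⟩
    obtain ⟨y, hy, e⟩ := hle (hr x)
    rw [← e, LinearMap.sub_apply, Matrix.toLin'_apply, LinearMap.id_apply, map_sub, T.comp_ne hm (hσ l y hy),
      T.comp_ne hm' hy, sub_zero]

section K

variable (hK : ∀ g ∈ Cfsg.Omega F (⇑Q), Perms Q D g → g ∈ K)
include hK

theorem good_of_fix {h : Cfsg.isometryGroup F (⇑Q)} (hh : h ∈ K) (hb : ¬ Perms Q D h) {i : Fin t} {w : ι → F}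
    (hw : w ∈ D i) (hQw : Q w ≠ 0) (hfix : mat Q h *ᵥ w = w) : ∃ x, Good K D x := by
  obtain ⟨l, f, hf, hQf, hoff⟩ := T.exists_off hb hQw
  have hx : Q (mat Q h *ᵥ f) ≠ 0 := by rw [Q_act, hQf]; exact hQw
  have hf0 : Q f ≠ 0 := hQf ▸ hQw
  refine ⟨_, hoff, hx, fun m f' hf' hf'0 e => ?_⟩
  have h1 := K.mul_mem (K.mul_mem hh (T.pair_mem hK hf hw hf0 hQw hQf)) (K.inv_mem hh)
  rw [show h * (refl Q f hf0 * refl Q w hQw) * h⁻¹ = (h * refl Q f hf0 * h⁻¹) * (h * refl Q w hQw * h⁻¹) by group,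
    refl_conj, refl_conj] at h1
  have e2 : refl Q (mat Q h *ᵥ w) (by rw [Q_act]; exact hQw) = refl Q w hQw :=
    (refl_congr Q hQw _ (t := 1) (by rw [hfix, one_smul]))
  rw [e2] at h1
  have h2 := K.mul_mem h1 (T.pair_mem hK hw hf' hQw hf'0 (by rw [e, Q_act, hQf]))
  rwa [mul_assoc, ← mul_assoc (refl Q w hQw), refl_mul_self, one_mul] at h2

theorem good_pair {x y : ι → F} (hx : Good K D x) (hy : Good K D y) (h : Q x = Q y) (hx0 : Q x ≠ 0)
    (hy0 : Q y ≠ 0) : refl Q x hx0 * refl Q y hy0 ∈ K := by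
  obtain ⟨-, _, hxf⟩ := hx
  obtain ⟨-, _, hyf⟩ := hy
  obtain ⟨f, hf, hQf⟩ := T.exists_value ⟨0, by have := T.two_le; omega⟩ (Q x)
  have hf0 : Q f ≠ 0 := hQf ▸ hx0
  have h1 := K.mul_mem (hxf _ f hf hf0 hQf) (K.inv_mem (hyf _ f hf hf0 (hQf.trans h)))
  rwa [_root_.mul_inv_rev, inv_eq_of_mul_eq_one_left (refl_mul_self Q f hf0),
    inv_eq_of_mul_eq_one_left (refl_mul_self Q y hy0), mul_assoc, ← mul_assoc (refl Q f hf0), refl_mul_self,
    one_mul] at h1

theorem good_map {x : ι → F} (hx : Good K D x) {m : Cfsg.isometryGroup F (⇑Q)} (hm : m ∈ K) (hp : Perms Q D m) :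
    Good K D (mat Q m *ᵥ x) := by
  obtain ⟨hoff, hx0, hxf⟩ := hx
  obtain ⟨σ, hσ⟩ := hp
  refine ⟨fun i hi => ?_, by rw [Q_act]; exact hx0, fun i f hf hf0 e => ?_⟩
  · obtain ⟨l, hl⟩ := T.exists_comp (v := x) (fun e => hoff i (e ▸ (D i).zero_mem))
    obtain ⟨l', hl', hl'0⟩ := T.exists_other hoff l
    have hne : ∀ a, T.comp a x ≠ 0 → T.comp (σ a) (mat Q m *ᵥ x) ≠ 0 := fun a ha e => ha (mv_injective Q m (by
      rw [T.comp_perm hσ] at e
      exact e.trans (Matrix.mulVec_zero _).symm))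
    exact T.notMem_of_two (σ.injective.ne hl') (hne l' hl'0) (hne l hl) i hi
  · obtain ⟨f', hf', hQf'⟩ := T.exists_value i (Q x)
    have hf'0 : Q f' ≠ 0 := hQf' ▸ hx0
    have h1 := K.mul_mem (K.mul_mem hm (hxf i f' hf' hf'0 hQf')) (K.inv_mem hm)
    rw [show m * (refl Q x hx0 * refl Q f' hf'0) * m⁻¹ = (m * refl Q x hx0 * m⁻¹) * (m * refl Q f' hf'0 * m⁻¹) by group,
      refl_conj, refl_conj] at h1
    have h2 := K.mul_mem h1 (T.pair_mem hK (hσ i f' hf') hf (by rw [Q_act]; exact hf'0) hf0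
      (by rw [Q_act, e, hQf', Q_act]))
    rwa [mul_assoc, ← mul_assoc (refl Q (mat Q m *ᵥ f') _), refl_mul_self, one_mul] at h2

theorem good_turn {x y : ι → F} (hx : Good K D x) (hy : Good K D y) (h : Q x = Q y) (hx0 : Q x ≠ 0)
    (hoff : ∀ i, mat Q (refl Q x hx0) *ᵥ y ∉ D i) : Good K D (mat Q (refl Q x hx0) *ᵥ y) := by
  have hy0 : Q y ≠ 0 := h ▸ hx0
  refine ⟨hoff, by rw [Q_act]; exact hy0, fun i f hf hf0 e => ?_⟩
  rw [Q_act] at e
  have hxy := T.good_pair hK hx hy h hx0 hy0
  obtain ⟨-, _, hxf⟩ := hx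
  have h1 := K.mul_mem hxy (hxf i f hf hf0 (e.trans h.symm))
  rw [← refl_conj Q (refl Q x hx0) y hy0, inv_eq_of_mul_eq_one_left (refl_mul_self Q x hx0)]
  simpa [mul_assoc] using h1

theorem root_of_move {x : ι → F} (hx : Good K D x) {m : Cfsg.isometryGroup F (⇑Q)} (hm : m ∈ K) (hp : Perms Q D m)
    {u : ι → F} {c : F} (hu : Q u = 0) (hux : QuadraticMap.polar (⇑Q) u x = 0)
    (hmx : mat Q m *ᵥ x = x + c • u) : (c * (Q x)⁻¹) • x ∈ kset Q K u := by
  have hx0 : Q x ≠ 0 := hx.2.1
  have h2 : Q (mat Q m *ᵥ x) ≠ 0 := by rw [Q_act]; exact hx0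
  have h1 := T.good_pair hK hx (T.good_map hK hx hm hp) (Q_act Q m x).symm hx0 h2
  refine ⟨by rw [QuadraticMap.polar_smul_right, hux, smul_zero], fun hu' hz => ?_⟩
  convert h1 using 1
  refine ext_mulVec Q fun w => ?_
  rw [mat_siegelG, mv_mul]
  show _ = Cfsg.reflectionMatrix (⇑Q) x *ᵥ (Cfsg.reflectionMatrix (⇑Q) (mat Q m *ᵥ x) *ᵥ w)
  rw [hmx, pair_eq Q hu hux hx0]

theorem exists_rot (hk : k = 2) {i : Fin t} {e : ι → F} (he : e ∈ D i) (he0 : e ≠ 0) (hQe : Q e = 0) :
    ∃ m ∈ K, Perms Q D m ∧ ∃ μ : F, μ ≠ 1 ∧ mat Q m *ᵥ e = μ • e ∧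
      ∀ y, T.comp i y = 0 → mat Q m *ᵥ y = y := by
  classical
  have hq := T.two_plus hk i e he he0 hQe
  obtain ⟨p, hp, hQp, hep⟩ := T.exists_singular_pair hk he he0 hQe
  obtain ⟨s, hs⟩ : ∃ s : F, s ∉ ({0, 1, -1} : Finset F) := by
    by_contra h
    push Not at h
    have := (Finset.card_le_card (fun x _ => h x : (Finset.univ : Finset F) ⊆ {0, 1, -1})).trans Finset.card_le_three
    rw [Finset.card_univ] at this
    omega
  simp only [Finset.mem_insert, Finset.mem_singleton, not_or] at hs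
  set μ := s * s with hμ
  have hμ1 : μ ≠ 1 := fun h => (mul_self_eq_one_iff.mp h).elim hs.2.1 hs.2.2
  have hμ0 : μ ≠ 0 := mul_ne_zero hs.1 hs.1
  have hQ : ∀ c : F, Q (e - c • p) = -c := fun c => by
    rw [sub_eq_add_neg, ← neg_smul, QuadraticMap.map_add (f := Q), QuadraticMap.map_smul, hQe, hQp,
      QuadraticMap.polar_smul_right, hep]
    simp
  have h1 : Q (e - (1 : F) • p) ≠ 0 := by rw [hQ]; simp
  have h3 : Q (e - μ • p) ≠ 0 := by rw [hQ]; simpa using hμ0
  have hnes : Q (s⁻¹ • (e - μ • p)) = Q (e - (1 : F) • p) := by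
    rw [QuadraticMap.map_smul, hQ, hQ, hμ, smul_eq_mul]
    field_simp
    rw [div_self hs.1]
  have h2 : Q (s⁻¹ • (e - μ • p)) ≠ 0 := by rw [hnes]; exact h1
  have hmem : ∀ c : F, e - c • p ∈ D i := fun c => (D i).sub_mem he ((D i).smul_mem c hp)
  have hr : refl Q _ h2 = refl Q _ h3 := refl_congr Q h3 h2 rfl
  have hfix : ∀ (v : ι → F) (hv : Q v ≠ 0), v ∈ D i → ∀ y, T.comp i y = 0 → mat Q (refl Q v hv) *ᵥ y = y :=
    fun v hv hvm y hy => mv_refl_fix Q v hv (by rw [T.form hvm, hy, QuadraticMap.polar_zero_right])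
  refine ⟨refl Q _ h1 * refl Q _ h3, ?_, perms_mul (T.refl_perms h1 (hmem 1)) (T.refl_perms h3 (hmem μ)),
    μ, hμ1, ?_, fun y hy => ?_⟩
  · rw [← hr]
    exact T.pair_mem hK (hmem 1) ((D i).smul_mem _ (hmem μ)) h1 h2 hnes.symm
  · rw [mv_mul, mv_refl, mv_refl, hQ, hQ]
    simp only [QuadraticMap.polar_sub_left, QuadraticMap.polar_sub_right, QuadraticMap.polar_smul_left,
      QuadraticMap.polar_smul_right, perp_self Q hQe, perp_self Q hQp, QuadraticMap.polar_comm (⇑Q) p e, hep,
      smul_eq_mul, mul_one, mul_zero, sub_zero, zero_sub, inv_neg, _root_.inv_one, neg_mul_neg, one_mul]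
    rw [inv_mul_cancel₀ hμ0]
    module
  · rw [mv_mul, hfix _ h3 (hmem μ) y hy, hfix _ h1 (hmem 1) y hy]

/-- Four dimensions and more. -/
theorem good_of_big (hk : 4 ≤ k) {g : Cfsg.isometryGroup F (⇑Q)} (hg : g ∈ K) (hb : ¬ Perms Q D g) :
    ∃ x, Good K D x := by
  classical
  obtain ⟨i, d, hd, hQd, hoff⟩ := T.exists_off hb one_ne_zero
  set y := mat Q g *ᵥ d with hy
  have hy0 : y ≠ 0 := fun e => hoff i (e ▸ (D i).zero_mem)
  obtain ⟨a, ha⟩ := T.exists_comp hy0
  obtain ⟨a', ha', ha'0⟩ := T.exists_other hoff a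
  set C := Submodule.span F ({y, T.comp a y} : Set (ι → F))
  obtain ⟨d', hd', hQd', hd'C⟩ : ∃ d' ∈ D i, Q d' = 1 ∧ mat Q g *ᵥ d' ∉ C := by
    by_contra hcon
    push Not at hcon
    have hle : (D i).map (Matrix.toLin' (mat Q g)) ≤ C :=
      Submodule.map_le_iff_le_comap.mpr (T.span_value i one_ne_zero _ hcon)
    have h1 := Submodule.finrank_mono hle
    rw [show Module.finrank F ((D i).map (Matrix.toLin' (mat Q g))) = Module.finrank F (D i) from
      LinearEquiv.finrank_map_eq (Matrix.toLinearEquiv' (mat Q g) (g : GL ι F).invertible) (D i), T.finrank_eq] at h1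
    have := finrank_pair_le (F := F) y (T.comp a y)
    change k ≤ Module.finrank F ↥(Submodule.span F ({y, T.comp a y} : Set (ι → F))) at h1
    omega
  set y' := mat Q g *ᵥ d' with hy'
  have hQy : Q y = 1 := by rw [Q_act, hQd]
  have hQy' : Q y' = 1 := by rw [Q_act, hQd']
  have h1 : Q y ≠ 0 := hQy ▸ one_ne_zero
  have h2 : Q y' ≠ 0 := hQy' ▸ one_ne_zero
  have hd0 : Q d ≠ 0 := hQd ▸ one_ne_zero
  have hd'0 : Q d' ≠ 0 := hQd' ▸ one_ne_zero
  set h := refl Q y h1 * refl Q y' h2 with hh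
  have hhK : h ∈ K := by
    have e := K.mul_mem (K.mul_mem hg (T.pair_mem hK hd hd' hd0 hd'0 (hQd.trans hQd'.symm))) (K.inv_mem hg)
    rwa [show g * (refl Q d hd0 * refl Q d' hd'0) * g⁻¹ = (g * refl Q d hd0 * g⁻¹) * (g * refl Q d' hd'0 * g⁻¹) by
      group, refl_conj, refl_conj] at e
  have hr : ∀ x, mat Q h *ᵥ x - x ∈ Submodule.span F ({y, y'} : Set (ι → F)) := fun x => by
    rw [hh, mv_mul, mv_refl Q y h1, mv_refl Q y' h2]
    rw [sub_right_comm, sub_sub_cancel_left]
    exact sub_mem (neg_mem (Submodule.smul_mem _ _ (Submodule.subset_span (by simp))))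
      (Submodule.smul_mem _ _ (Submodule.subset_span (by simp)))
  have hbad : ¬ Perms Q D h := by
    intro hp
    obtain ⟨x, hy'x, hyx⟩ : ∃ x, QuadraticMap.polar (⇑Q) y' x = 0 ∧ QuadraticMap.polar (⇑Q) y x ≠ 0 := by
      by_contra hcon
      push Not at hcon
      obtain ⟨-, e, -, hd'e⟩ := T.nd i d' hd' (fun e => hd'0 (by rw [e, QuadraticMap.map_zero]))
      set e' := mat Q g *ᵥ e
      have he' : QuadraticMap.polar (⇑Q) y' e' ≠ 0 := by rwa [polar_act]
      refine hd'C (Submodule.mem_span_pair.mpr ?_)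
      have hz : y + (-(QuadraticMap.polar (⇑Q) y e' / QuadraticMap.polar (⇑Q) y' e')) • y' = 0 := by
        refine T.nondeg.1 _ fun x => ?_
        show QuadraticMap.polar (⇑Q) _ x = 0
        have := hcon (x + (-(QuadraticMap.polar (⇑Q) y' x / QuadraticMap.polar (⇑Q) y' e')) • e') (by
          rw [QuadraticMap.polar_add_right, QuadraticMap.polar_smul_right, smul_eq_mul]
          field_simp
          ring)
        rw [QuadraticMap.polar_add_right, QuadraticMap.polar_smul_right, smul_eq_mul] at this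
        rw [QuadraticMap.polar_add_left, QuadraticMap.polar_smul_left, smul_eq_mul]
        linear_combination this
      have hc : QuadraticMap.polar (⇑Q) y e' / QuadraticMap.polar (⇑Q) y' e' ≠ 0 := fun e0 => hy0 (by
        rwa [e0, neg_zero, zero_smul, add_zero] at hz)
      refine ⟨(QuadraticMap.polar (⇑Q) y e' / QuadraticMap.polar (⇑Q) y' e')⁻¹, 0, ?_⟩
      have hyc : y = (QuadraticMap.polar (⇑Q) y e' / QuadraticMap.polar (⇑Q) y' e') • y' := by
        linear_combination (norm := module) hz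
      rw [zero_smul, add_zero]
      refine (congrArg (fun v => (QuadraticMap.polar (⇑Q) y e' / QuadraticMap.polar (⇑Q) y' e')⁻¹ • v) hyc).trans ?_
      rw [smul_smul, inv_mul_cancel₀ hc, one_smul]
    have hm := (T.perms_moved hp _ (finrank_pair_le y y') hr x).1 hk a
    rw [hh, mv_mul, mv_refl_fix Q y' h2 hy'x, mv_refl, sub_sub_cancel_left, map_neg, map_smul,
      neg_mem_iff, Submodule.smul_mem_iff _ (mul_ne_zero (inv_ne_zero h1) hyx)] at hm
    obtain ⟨α, β, hαβ⟩ := Submodule.mem_span_pair.mp hm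
    by_cases hβ : β = 0
    · subst hβ
      rw [zero_smul, add_zero] at hαβ
      have h3 := congrArg (T.comp a') hαβ
      rw [map_smul, T.comp_ne ha' (T.comp_mem a y), smul_eq_zero] at h3
      rw [h3.resolve_right ha'0, zero_smul] at hαβ
      exact ha hαβ.symm
    · refine hd'C ?_
      rw [show y' = β⁻¹ • (T.comp a y - α • y) by
        rw [← hαβ, add_sub_cancel_left, smul_smul, inv_mul_cancel₀ hβ, one_smul]]
      exact C.smul_mem _ (C.sub_mem (Submodule.subset_span (by simp))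
        (C.smul_mem _ (Submodule.subset_span (by simp))))
  obtain ⟨l, hl⟩ : ∃ l, Q (T.comp l y) ≠ 0 := by
    by_contra hcon
    push Not at hcon
    apply h1
    rw [← T.sum_comp y, T.Q_sum Finset.univ id Function.injective_id.injOn _ fun l _ => T.comp_mem l y]
    exact Finset.sum_eq_zero fun l _ => hcon l
  set X := D l ⊓ HypQuad.perp Q (Submodule.span F ({y, y'} : Set (ι → F)))
  obtain ⟨w, hw, hQw⟩ : ∃ w ∈ X, Q w ≠ 0 := by
    by_contra hcon
    push Not at hcon
    set V := Submodule.span F {T.comp l y}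
    have hVX : X ⊓ V = ⊥ := le_bot_iff.mp fun z hz => by
      obtain ⟨r, rfl⟩ := Submodule.mem_span_singleton.mp hz.2
      have := hcon _ hz.1
      rw [QuadraticMap.map_smul, smul_eq_mul, mul_eq_zero, mul_self_eq_zero] at this
      rw [this.resolve_right hl, zero_smul]
      exact Submodule.zero_mem _
    have hle : X ⊔ V ≤ D l ⊓ HypQuad.perp Q X := sup_le
      (le_inf inf_le_left fun z hz => (HypQuad.mem_perp Q).mpr fun w hw => HypQuad.polar_zero_of_singular Q hcon hw hz)
      ((Submodule.span_singleton_le_iff_mem _ _).mpr ⟨T.comp_mem l y, (HypQuad.mem_perp Q).mpr fun w hw => by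
        rw [← T.form hw.1, QuadraticMap.polar_comm]
        exact (HypQuad.mem_perp Q).mp hw.2 y (Submodule.subset_span (by simp))⟩)
    have e1 := Submodule.finrank_sup_add_finrank_inf_eq X V
    rw [hVX, finrank_bot, finrank_span_singleton (fun e => hl (by rw [e, QuadraticMap.map_zero]))] at e1
    have e2 := Submodule.finrank_mono hle
    have e3 := Submodule.finrank_sup_add_finrank_inf_eq (D l) (HypQuad.perp Q (Submodule.span F ({y, y'} : Set (ι → F))))
    have e4 := Submodule.finrank_le (D l ⊔ HypQuad.perp Q (Submodule.span F ({y, y'} : Set (ι → F))))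
    rw [HypQuad.finrank_perp Q T.nondeg, T.finrank_eq] at e3
    have e5 := finrank_pair_le (F := F) y y'
    change _ + Module.finrank F X = _ at e3
    have e6 : Module.finrank F ↥(D l ⊓ HypQuad.perp Q X) + Module.finrank F X = k := by
      have hdis : HypQuad.perp Q (D l) ⊓ X = ⊥ := le_bot_iff.mp fun z hz =>
        (nondeg_perp Q T.nondeg (T.nd l)).1.inf_eq_bot ▸ ⟨hz.2.1, hz.1⟩
      have hsum : HypQuad.perp Q (D l) ⊔ (D l ⊓ HypQuad.perp Q X) = HypQuad.perp Q X := by
        refine le_antisymm (sup_le (fun z hz => (HypQuad.mem_perp Q).mpr fun w hw =>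
          (HypQuad.mem_perp Q).mp hz w hw.1) inf_le_right) fun z hz => ?_
        obtain ⟨p, hp, q, hq, rfl⟩ := Submodule.mem_sup.mp
          ((nondeg_perp Q T.nondeg (T.nd l)).1.sup_eq_top ▸ Submodule.mem_top : z ∈ D l ⊔ HypQuad.perp Q (D l))
        refine Submodule.mem_sup.mpr ⟨q, hq, p, ⟨hp, (HypQuad.mem_perp Q).mpr fun w hw => ?_⟩, add_comm q p⟩
        have := (HypQuad.mem_perp Q).mp hz w hw
        rwa [QuadraticMap.polar_add_right, (HypQuad.mem_perp Q).mp hq w hw.1, add_zero] at this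
      have f1 := Submodule.finrank_sup_add_finrank_inf_eq (HypQuad.perp Q (D l)) (D l ⊓ HypQuad.perp Q X)
      rw [hsum, show HypQuad.perp Q (D l) ⊓ (D l ⊓ HypQuad.perp Q X) = ⊥ from le_bot_iff.mp fun z hz =>
        (nondeg_perp Q T.nondeg (T.nd l)).1.inf_eq_bot ▸ ⟨hz.2.1, hz.1⟩, finrank_bot,
        HypQuad.finrank_perp Q T.nondeg, HypQuad.finrank_perp Q T.nondeg, T.finrank_eq] at f1
      have f2 := Submodule.finrank_le X
      have f3 := Submodule.finrank_le (D l)
      rw [T.finrank_eq] at f3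
      omega
    omega
  refine T.good_of_fix hK hhK hbad hw.1 hQw ?_
  rw [hh, mv_mul, mv_refl_fix Q y' h2 ((HypQuad.mem_perp Q).mp hw.2 y' (Submodule.subset_span (by simp))),
    mv_refl_fix Q y h1 ((HypQuad.mem_perp Q).mp hw.2 y (Submodule.subset_span (by simp)))]

/-- Dimension two. -/
theorem good_or_root (hk : k = 2) {g : Cfsg.isometryGroup F (⇑Q)} (hg : g ∈ K) (hb : ¬ Perms Q D g) :
    (∃ x, Good K D x) ∨ ∃ u z i i' j, Root T K u z i i' j := by
  classical
  have ht := T.seven_le hk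
  obtain ⟨a, ha⟩ : ∃ a, ∀ l, ∃ x ∈ D a, mat Q g *ᵥ x ∉ D l := by
    by_contra hcon
    push Not at hcon
    exact hb (T.perms_of_map hcon)
  obtain ⟨b, hb1, hQb⟩ := T.exists_value a 1
  obtain ⟨b', hb', hQb', hne, hbb'⟩ := T.exists_pair a one_ne_zero hb1 hQb
  have hb0 : Q b ≠ 0 := hQb ▸ one_ne_zero
  have hb'0 : Q b' ≠ 0 := hQb' ▸ one_ne_zero
  have hbne : b ≠ 0 := fun e => hb0 (by rw [e, QuadraticMap.map_zero])
  have hspanA := T.plane_span hk hb1 hb' hbne hne
  set y := mat Q g *ᵥ b with hy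
  set y' := mat Q g *ᵥ b' with hy'
  have hQy : Q y = 1 := by rw [Q_act, hQb]
  have hQy' : Q y' = 1 := by rw [Q_act, hQb']
  have hyy' : QuadraticMap.polar (⇑Q) y y' ≠ 0 := by rwa [polar_act]
  have h1 : Q y ≠ 0 := hQy ▸ one_ne_zero
  have h2 : Q y' ≠ 0 := hQy' ▸ one_ne_zero
  set W := Submodule.span F ({y, y'} : Set (ι → F)) with hW
  have hyW : y ∈ W := Submodule.subset_span (by simp)
  have hy'W : y' ∈ W := Submodule.subset_span (by simp)
  have hind : ∀ α β : F, α • y + β • y' = 0 → α = 0 ∧ β = 0 := by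
    intro α β e
    have e' : α • b + β • b' = 0 := mv_injective Q g (by
      simp only [Matrix.mulVec_add, Matrix.mulVec_smul, ← hy, ← hy', e, Matrix.mulVec_zero])
    have hli : LinearIndependent F ![b, b'] := (LinearIndependent.pair_iff' hbne).mpr fun r hr =>
      hne (Submodule.mem_span_singleton.mpr ⟨r, hr⟩)
    exact LinearIndependent.pair_iff.mp hli α β e'
  have hWnd : ∀ v ∈ W, QuadraticMap.polar (⇑Q) y v = 0 → QuadraticMap.polar (⇑Q) y' v = 0 → v = 0 := by
    intro v hv e1 e2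
    obtain ⟨α, β, rfl⟩ := Submodule.mem_span_pair.mp hv
    rw [hy, hy', ← Matrix.mulVec_smul, ← Matrix.mulVec_smul, ← Matrix.mulVec_add, polar_act] at e1 e2
    suffices h : α • b + β • b' = 0 by rw [hy, hy', ← Matrix.mulVec_smul, ← Matrix.mulVec_smul, ← Matrix.mulVec_add, h, Matrix.mulVec_zero]
    by_contra h0
    obtain ⟨-, w, hw, hvw⟩ := T.nd a _ ((D a).add_mem ((D a).smul_mem α hb1) ((D a).smul_mem β hb')) h0
    obtain ⟨γ, δ, rfl⟩ := Submodule.mem_span_pair.mp (hspanA hw)
    apply hvw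
    rw [QuadraticMap.polar_add_right, QuadraticMap.polar_smul_right, QuadraticMap.polar_smul_right,
      QuadraticMap.polar_comm (⇑Q) _ b, e1, QuadraticMap.polar_comm (⇑Q) _ b', e2, smul_zero, smul_zero, add_zero]
  have hWblock : ∀ l, ¬ (y ∈ D l ∧ y' ∈ D l) := by
    rintro l ⟨e1, e2⟩
    obtain ⟨x, hx, hxl⟩ := ha l
    obtain ⟨γ, δ, rfl⟩ := Submodule.mem_span_pair.mp (hspanA hx)
    apply hxl
    rw [Matrix.mulVec_add, Matrix.mulVec_smul, Matrix.mulVec_smul]
    exact (D l).add_mem ((D l).smul_mem _ e1) ((D l).smul_mem _ e2)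
  set h := refl Q y h1 * refl Q y' h2 with hh
  have hhK : h ∈ K := by
    have e := K.mul_mem (K.mul_mem hg (T.pair_mem hK hb1 hb' hb0 hb'0 (hQb.trans hQb'.symm))) (K.inv_mem hg)
    rwa [show g * (refl Q b hb0 * refl Q b' hb'0) * g⁻¹ = (g * refl Q b hb0 * g⁻¹) * (g * refl Q b' hb'0 * g⁻¹) by
      group, refl_conj, refl_conj] at e
  have hr : ∀ x, mat Q h *ᵥ x - x ∈ W := fun x => by
    rw [hh, mv_mul, mv_refl Q y h1, mv_refl Q y' h2]
    rw [sub_right_comm, sub_sub_cancel_left]
    exact sub_mem (neg_mem (Submodule.smul_mem _ _ hy'W)) (Submodule.smul_mem _ _ hyW)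
  have hsq : mat Q h *ᵥ (mat Q h *ᵥ y') ≠ y' := by
    intro e
    have e' := congrArg (fun v => mat Q (refl Q y' h2 * refl Q y h1) *ᵥ v) e
    rw [hh, ← mv_mul Q (refl Q y' h2 * refl Q y h1), mul_assoc, ← mul_assoc (refl Q y h1), refl_mul_self, one_mul,
      refl_mul_self, mv_one, mv_mul, mv_mul] at e'
    have hs : mat Q (refl Q y' h2) *ᵥ y' = -y' := Refl.self Q y' h2
    rw [hs, Matrix.mulVec_neg, mv_refl Q y h1 y', Matrix.mulVec_sub, Matrix.mulVec_smul, hs, hQy, _root_.inv_one,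
      one_mul, mv_refl Q y' h2 y, hQy', QuadraticMap.polar_comm (⇑Q) y' y, _root_.inv_one, one_mul] at e'
    set c := QuadraticMap.polar (⇑Q) y y'
    have e2 : (2 * c) • y + (-(c * c)) • y' = 0 := by
      linear_combination (norm := module) e'
    obtain ⟨-, hcc⟩ := hind _ _ e2
    exact hyy' (mul_self_eq_zero.mp (neg_eq_zero.mp hcc))
  have hbad : ¬ Perms Q D h := by
    rintro ⟨σ, hσ⟩
    by_cases hfix : ∀ l, σ l = l
    · obtain ⟨x₀, hx₀⟩ : ∃ x₀, x₀ ∈ W ∧ ∃ p r, p ≠ r ∧ T.comp p x₀ ≠ 0 ∧ T.comp r x₀ ≠ 0 := by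
        by_contra hcon
        push Not at hcon
        have hone : ∀ v ∈ W, v ≠ 0 → ∃ l, v ∈ D l := fun v hv hv0 => by
          by_contra hno
          push Not at hno
          obtain ⟨p, hp⟩ := T.exists_comp hv0
          obtain ⟨r, hr', hr0⟩ := T.exists_other hno p
          exact hr0 (hcon v hv p r hr'.symm hp)
        obtain ⟨l, hl⟩ := hone y hyW (fun e => h1 (by rw [e, QuadraticMap.map_zero]))
        obtain ⟨l', hl'⟩ := hone y' hy'W (fun e => h2 (by rw [e, QuadraticMap.map_zero]))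
        rcases eq_or_ne l l' with rfl | hll
        · exact hWblock l ⟨hl, hl'⟩
        · exact hyy' (T.orth hll hl hl')
      obtain ⟨hx₀W, p, r, hpr, hp0, hr0⟩ := hx₀
      have hfix' : ∀ l, ∀ v ∈ D l, mat Q h *ᵥ v ∈ D l := fun l v hv => by simpa [hfix l] using hσ l v hv
      have hcW : ∀ l, ∀ v ∈ W, T.comp l v ∈ W := by
        intro l v hv
        have key : ∀ w, (∃ x, mat Q h *ᵥ x - x = w) → T.comp l w ∈ W := by
          rintro _ ⟨x, rfl⟩
          rw [map_sub]
          nth_rewrite 1 [← hfix l]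
          rw [T.comp_perm hσ]
          exact hr _
        have hrange : ∀ w ∈ W, ∃ x, mat Q h *ᵥ x - x = w := by
          let L := Matrix.toLin' (mat Q h) - LinearMap.id
          have hLW : Submodule.map L W = W := by
            refine Submodule.eq_of_le_of_finrank_le (by rintro _ ⟨x, -, rfl⟩; simpa [L] using hr x) ?_
            have hinjL : Function.Injective (L.domRestrict W) := by
              refine (injective_iff_map_eq_zero _).mpr fun v hv => Subtype.ext ?_
              have hv' : mat Q h *ᵥ (v : ι → F) = v := by simpa [L, sub_eq_zero] using hv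
              rw [hh, mv_mul] at hv'
              have hv'' := congrArg (fun w => mat Q (refl Q y h1) *ᵥ w) hv'
              rw [← mv_mul Q (refl Q y h1), refl_mul_self, mv_one, mv_refl, mv_refl, hQy, hQy', _root_.inv_one,
                one_mul, one_mul, sub_right_inj] at hv''
              obtain ⟨e1, e2⟩ := hind (-QuadraticMap.polar (⇑Q) y (v : ι → F)) (QuadraticMap.polar (⇑Q) y' (v : ι → F))
                (by rw [hv'']; module)
              exact hWnd v v.2 (neg_eq_zero.mp e1) e2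
            rw [← LinearMap.range_domRestrict, LinearMap.finrank_range_of_inj hinjL]
          intro w hw
          rw [← hLW] at hw
          obtain ⟨x, -, e⟩ := hw
          exact ⟨x, by simpa [L] using e⟩
        exact key v (hrange v hv)
      set vp := T.comp p x₀
      set vr := T.comp r x₀
      have hlineP : ∀ (p r : Fin t) (vp vr : ι → F), p ≠ r → vp ∈ D p → vr ∈ D r → vp ∈ W → vr ∈ W → vp ≠ 0 → vr ≠ 0 →
          mat Q h *ᵥ (mat Q h *ᵥ vp) = vp := by
        intro p r vp vr hpr hvp hvr hpW hrW hp0 hr0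
        have hli : LinearIndependent F ![vp, vr] := (LinearIndependent.pair_iff' hp0).mpr fun c hc => hr0 (by
          rw [← T.comp_self hvr, ← hc, map_smul, T.comp_ne hpr.symm hvp, smul_zero])
        have hs : Submodule.span F (Set.range ![vp, vr]) = W :=
          Submodule.eq_of_le_of_finrank_le (Submodule.span_le.mpr (by rintro _ ⟨j, rfl⟩; fin_cases j <;> assumption))
            (by rw [finrank_span_eq_card hli]; simpa using finrank_pair_le (F := F) y y')
        have hmem : mat Q h *ᵥ vp ∈ W := by simpa using W.add_mem (hr vp) hpW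
        rw [← hs, Matrix.range_cons_cons_empty, Submodule.mem_span_pair] at hmem
        obtain ⟨c, c', hc⟩ := hmem
        have hc' : c' = 0 := by
          have := congrArg (T.comp r) hc
          rw [map_add, map_smul, map_smul, T.comp_ne hpr.symm hvp, T.comp_self hvr,
            T.comp_ne hpr.symm (hfix' p vp hvp), smul_zero, zero_add] at this
          exact (smul_eq_zero.mp this).resolve_right hr0
        rw [hc', zero_smul, add_zero] at hc
        have hQvp : Q vp ≠ 0 := fun e => hp0 (hWnd vp hpW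
          (by
            have : W ≤ LinearMap.ker (QuadraticMap.polarBilin Q vp) := hs ▸ Submodule.span_le.mpr (by
              rintro _ ⟨j, rfl⟩; fin_cases j
              · exact perp_self Q e
              · exact T.orth hpr hvp hvr)
            rw [QuadraticMap.polar_comm]; exact this hyW)
          (by
            have : W ≤ LinearMap.ker (QuadraticMap.polarBilin Q vp) := hs ▸ Submodule.span_le.mpr (by
              rintro _ ⟨j, rfl⟩; fin_cases j
              · exact perp_self Q e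
              · exact T.orth hpr hvp hvr)
            rw [QuadraticMap.polar_comm]; exact this hy'W))
        have hcc : c * c = 1 := by
          have := Q_act Q h vp
          rw [← hc, QuadraticMap.map_smul, smul_eq_mul] at this
          exact mul_right_cancel₀ hQvp (this.trans (one_mul _).symm)
        rw [← hc, Matrix.mulVec_smul, ← hc, smul_smul, hcc, one_smul]
      have e1 := hlineP p r vp vr hpr (T.comp_mem p x₀) (T.comp_mem r x₀) (hcW p x₀ hx₀W) (hcW r x₀ hx₀W) hp0 hr0
      have e2 := hlineP r p vr vp hpr.symm (T.comp_mem r x₀) (T.comp_mem p x₀) (hcW r x₀ hx₀W) (hcW p x₀ hx₀W) hr0 hp0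
      have hli : LinearIndependent F ![vp, vr] := (LinearIndependent.pair_iff' hp0).mpr fun c hc => hr0 (by
        rw [show vr = T.comp r vr from (T.comp_self (T.comp_mem r x₀)).symm, ← hc, map_smul,
          T.comp_ne hpr.symm (T.comp_mem p x₀), smul_zero])
      have hs : Submodule.span F (Set.range ![vp, vr]) = W :=
        Submodule.eq_of_le_of_finrank_le (Submodule.span_le.mpr (by
          rintro _ ⟨j, rfl⟩; fin_cases j
          · exact hcW p x₀ hx₀W
          · exact hcW r x₀ hx₀W))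
          (by rw [finrank_span_eq_card hli]; simpa using finrank_pair_le (F := F) y y')
      have := hs.ge hy'W
      rw [Matrix.range_cons_cons_empty, Submodule.mem_span_pair] at this
      obtain ⟨α, β, hαβ⟩ := this
      apply hsq
      rw [← hαβ, Matrix.mulVec_add, Matrix.mulVec_add, Matrix.mulVec_smul, Matrix.mulVec_smul, Matrix.mulVec_smul,
        Matrix.mulVec_smul, e1, e2]
    · push Not at hfix
      obtain ⟨l, hl⟩ := hfix
      have hW2 : ∀ v ∈ W, ∃ x ∈ D l, mat Q h *ᵥ x - x = v := by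
        let L := Matrix.toLin' (mat Q h) - LinearMap.id
        have hLW : Submodule.map L (D l) = W := by
          refine Submodule.eq_of_le_of_finrank_le (by rintro _ ⟨x, -, rfl⟩; simpa [L] using hr x) ?_
          have hinjL : Function.Injective (L.domRestrict (D l)) := by
            refine (injective_iff_map_eq_zero _).mpr fun v hv => Subtype.ext ?_
            have hv' : mat Q h *ᵥ (v : ι → F) = v := by simpa [L, sub_eq_zero] using hv
            show (v : ι → F) = 0
            rw [← T.comp_self v.2, ← hv', T.comp_ne hl.symm (hσ l v v.2)]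
          rw [← LinearMap.range_domRestrict, LinearMap.finrank_range_of_inj hinjL, T.finrank_eq, hk]
          exact finrank_pair_le y y'
        intro v hv
        rw [← hLW] at hv
        obtain ⟨x, hx, e⟩ := hv
        exact ⟨x, hx, by simpa [L] using e⟩
      have hinvol : ∀ x ∈ D l, mat Q h *ᵥ (mat Q h *ᵥ x) = x := by
        intro x hx
        obtain ⟨x', hx', e⟩ := hW2 _ (hr (mat Q h *ᵥ x))
        have hne' : σ (σ l) ≠ σ l := fun e' => hl (σ.injective e')
        have h3 := congrArg (T.comp (σ l)) e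
        rw [map_sub, map_sub, T.comp_self (hσ l x' hx'), T.comp_ne hl hx',
          T.comp_ne hne'.symm (hσ (σ l) _ (hσ l x hx)), T.comp_self (hσ l x hx), sub_zero, zero_sub] at h3
        have hxx : x' = -x := mv_injective Q h (h3.trans (Matrix.mulVec_neg x _).symm)
        rw [hxx, Matrix.mulVec_neg] at e
        linear_combination (norm := module) -e
      obtain ⟨x, hx, e⟩ := hW2 y' hy'W
      apply hsq
      rw [← e, Matrix.mulVec_sub, Matrix.mulVec_sub, hinvol x hx]
  by_cases hA : ∃ i, ∃ w ∈ D i, Q w ≠ 0 ∧ QuadraticMap.polar (⇑Q) y w = 0 ∧ QuadraticMap.polar (⇑Q) y' w = 0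
  · obtain ⟨i, w, hw, hQw, e1, e2⟩ := hA
    exact Or.inl (T.good_of_fix hK hhK hbad hw hQw (by
      rw [hh, mv_mul, mv_refl_fix Q y' h2 e2, mv_refl_fix Q y h1 e1]))
  push Not at hA
  have hperp : ∀ i, ∀ w ∈ D i, ∀ v, QuadraticMap.polar (⇑Q) v w = QuadraticMap.polar (⇑Q) (T.comp i v) w :=
    fun i w hw v => by rw [QuadraticMap.polar_comm, T.form hw, QuadraticMap.polar_comm]
  by_cases hB : ∃ i, ∃ e ∈ D i, e ≠ 0 ∧ T.comp i y ∈ Submodule.span F {e} ∧ T.comp i y' ∈ Submodule.span F {e}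
  · obtain ⟨i, e, he, he0, hye, hy'e⟩ := hB
    obtain ⟨β₁, hβ₁⟩ := Submodule.mem_span_singleton.mp hye
    obtain ⟨β₂, hβ₂⟩ := Submodule.mem_span_singleton.mp hy'e
    have hQe : Q e = 0 := by
      by_contra hQe
      obtain ⟨w, hw, hQw, hwe⟩ := T.exists_side hk he hQe
      refine hA i w hw hQw ?_ ?_
      · rw [hperp i w hw, ← hβ₁, QuadraticMap.polar_smul_left, QuadraticMap.polar_comm, hwe, smul_zero]
      · rw [hperp i w hw, ← hβ₂, QuadraticMap.polar_smul_left, QuadraticMap.polar_comm, hwe, smul_zero]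
    have hey : ∀ v, T.comp i v ∈ Submodule.span F {e} → QuadraticMap.polar (⇑Q) e v = 0 := fun v hv => by
      obtain ⟨r, hr'⟩ := Submodule.mem_span_singleton.mp hv
      rw [T.form he, ← hr', QuadraticMap.polar_smul_right, perp_self Q hQe, smul_zero]
    obtain ⟨m, hm, hmp, μ, hμ, hme, hmfix⟩ := T.exists_rot hK hk he he0 hQe
    have hmv : ∀ (v : ι → F) (β : F), β • e = T.comp i v → mat Q m *ᵥ v = v + ((μ - 1) * β) • e := by
      intro v β hβ
      have h3 := hmfix (v - β • e) (by rw [map_sub, map_smul, T.comp_self he, hβ, sub_self])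
      rw [Matrix.mulVec_sub, Matrix.mulVec_smul, hme, sub_eq_iff_eq_add] at h3
      rw [h3]; module
    have hy1e : QuadraticMap.polar (⇑Q) e y = 0 := hey y hye
    have hy2e : QuadraticMap.polar (⇑Q) e y' = 0 := hey y' hy'e
    set c₁ := (μ - 1) * β₁
    set c₂ := (μ - 1) * β₂
    have h1' : Q (mat Q m *ᵥ y) ≠ 0 := by rw [Q_act]; exact h1
    have h2' : Q (mat Q m *ᵥ y') ≠ 0 := by rw [Q_act]; exact h2
    have hS : ∀ (v : ι → F) (hv : Q v ≠ 0) (hv' : Q (mat Q m *ᵥ v) ≠ 0) (c : F)
        (hev : QuadraticMap.polar (⇑Q) e v = 0), mat Q m *ᵥ v = v + c • e →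
        refl Q v hv * refl Q (mat Q m *ᵥ v) hv' = siegelG Q hQe (z := (c * (Q v)⁻¹) • v)
          (by rw [QuadraticMap.polar_smul_right, hev, smul_zero]) := by
      intro v hv hv' c hev hmc
      refine ext_mulVec Q fun w => ?_
      rw [mv_mul, mat_siegelG]
      show Cfsg.reflectionMatrix (⇑Q) v *ᵥ (Cfsg.reflectionMatrix (⇑Q) (mat Q m *ᵥ v) *ᵥ w) = _
      rw [hmc, pair_eq Q hQe hev hv]
    have hc : refl Q y h1 * refl Q y' h2 * (refl Q (mat Q m *ᵥ y') h2' * refl Q (mat Q m *ᵥ y) h1') ∈ K := by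
      have h3 := K.mul_mem hhK (K.inv_mem (K.mul_mem (K.mul_mem hm hhK) (K.inv_mem hm)))
      have e0 : m * h * m⁻¹ = refl Q (mat Q m *ᵥ y) h1' * refl Q (mat Q m *ᵥ y') h2' := by
        rw [hh, show m * (refl Q y h1 * refl Q y' h2) * m⁻¹ = (m * refl Q y h1 * m⁻¹) * (m * refl Q y' h2 * m⁻¹) by
          group, refl_conj, refl_conj]
      rwa [e0, _root_.mul_inv_rev, inv_eq_of_mul_eq_one_left (refl_mul_self Q _ h1'),
        inv_eq_of_mul_eq_one_left (refl_mul_self Q _ h2')] at h3
    set z := (c₂ * (Q y')⁻¹) • mat Q (refl Q y h1) *ᵥ y' + (c₁ * (Q y)⁻¹) • y with hz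
    have hfe : mat Q (refl Q y h1) *ᵥ e = e := mv_refl_fix Q y h1 (by rw [QuadraticMap.polar_comm]; exact hy1e)
    have hez : QuadraticMap.polar (⇑Q) e z = 0 := by
      have : QuadraticMap.polar (⇑Q) e (mat Q (refl Q y h1) *ᵥ y') = 0 := by
        nth_rewrite 1 [← hfe]; rw [polar_act]; exact hy2e
      rw [hz, QuadraticMap.polar_add_right, QuadraticMap.polar_smul_right, QuadraticMap.polar_smul_right, this, hy1e,
        smul_zero, smul_zero, add_zero]
    have hzK : z ∈ kset Q K e := by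
      refine ⟨hez, fun hu hz' => ?_⟩
      convert hc using 1
      rw [show refl Q y h1 * refl Q y' h2 * (refl Q (mat Q m *ᵥ y') h2' * refl Q (mat Q m *ᵥ y) h1') =
          refl Q y h1 * (refl Q y' h2 * refl Q (mat Q m *ᵥ y') h2') * (refl Q y h1)⁻¹ *
            (refl Q y h1 * refl Q (mat Q m *ᵥ y) h1') by group,
        hS y h1 h1' c₁ hy1e (hmv y β₁ hβ₁), hS y' h2 h2' c₂ hy2e (hmv y' β₂ hβ₂), siegelG_conj]
      refine Eq.trans ?_ (ext_mulVec Q fun w => rfl)
      refine ext_mulVec Q fun w => ?_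
      simp only [mv_mul, mat_siegelG, hfe, Matrix.mulVec_smul]
      rw [siegel_add Q hQe (by
          rw [QuadraticMap.polar_smul_right]; nth_rewrite 1 [← hfe]; rw [polar_act, hy2e, smul_zero])
        (by rw [QuadraticMap.polar_smul_right, hy1e, smul_zero])]
    obtain ⟨j, hji, hj⟩ : ∃ j, j ≠ i ∧ T.comp j z ≠ 0 := by
      by_contra hcon
      push Not at hcon
      have hrefl : mat Q (refl Q y h1) *ᵥ y' = y' - QuadraticMap.polar (⇑Q) y y' • y := by
        rw [mv_refl, hQy, _root_.inv_one, one_mul]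
      have hzW : z ∈ W := by
        rw [hz, hrefl]
        exact W.add_mem (W.smul_mem _ (W.sub_mem hy'W (W.smul_mem _ hyW))) (W.smul_mem _ hyW)
      have hzi : z = T.comp i z := by
        conv_lhs => rw [← T.sum_comp z]
        exact Finset.sum_eq_single i (fun l _ hl => hcon l hl) (fun h => absurd (Finset.mem_univ i) h)
      have hzspan : ∃ r : F, r • e = z := by
        refine Submodule.mem_span_singleton.mp ?_
        rw [hzi, hz, hrefl, map_add, map_smul, map_smul, map_sub, map_smul]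
        exact add_mem (Submodule.smul_mem _ _ (sub_mem hy'e (Submodule.smul_mem _ _ hye)))
          (Submodule.smul_mem _ _ hye)
      obtain ⟨r, hr'⟩ := hzspan
      have hz0 := hWnd z hzW (by rw [← hr', QuadraticMap.polar_smul_right, QuadraticMap.polar_comm, hy1e, smul_zero])
        (by rw [← hr', QuadraticMap.polar_smul_right, QuadraticMap.polar_comm, hy2e, smul_zero])
      rw [hz, hrefl, hQy, hQy', _root_.inv_one, mul_one, mul_one] at hz0
      obtain ⟨e1, e2⟩ := hind (c₁ - c₂ * QuadraticMap.polar (⇑Q) y y') c₂ (by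
        rw [← hz0]; module)
      rw [e2, zero_mul, sub_zero] at e1
      have hb₁ := (mul_eq_zero.mp e1).resolve_left (sub_ne_zero.mpr hμ)
      have hb₂ := (mul_eq_zero.mp e2).resolve_left (sub_ne_zero.mpr hμ)
      obtain ⟨w, hw, hQw⟩ := exists_nonsingular (T.nd i) (fun e0 => he0 (by rw [e0] at he; simpa using he))
      refine hA i w hw hQw ?_ ?_
      · rw [hperp i w hw, ← hβ₁, hb₁, zero_smul, QuadraticMap.polar_zero_left]
      · rw [hperp i w hw, ← hβ₂, hb₂, zero_smul, QuadraticMap.polar_zero_left]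
    exact Or.inr ⟨e, z, i, i, j, hQe, he0, hzK, fun l hl _ => T.comp_ne hl he, hji, hji, hj, fun _ => rfl⟩
  push Not at hB
  have hinjW : ∀ i, ∀ v ∈ W, T.comp i v = 0 → v = 0 := by
    intro i v hv hvi
    obtain ⟨α, β, rfl⟩ := Submodule.mem_span_pair.mp hv
    rw [map_add, map_smul, map_smul] at hvi
    obtain ⟨q, hq, hQq⟩ := exists_nonsingular (T.nd i) (fun e0 => by
      have := T.finrank_eq i; rw [e0, finrank_bot] at this; omega)
    have hy0 : T.comp i y ≠ 0 := fun e0 => by
      by_cases h' : T.comp i y' = 0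
      · exact hA i q hq hQq (by rw [hperp i q hq, e0, QuadraticMap.polar_zero_left])
          (by rw [hperp i q hq, h', QuadraticMap.polar_zero_left])
      · exact hB i _ (T.comp_mem i y') h' (by rw [e0]; exact Submodule.zero_mem _)
          (Submodule.mem_span_singleton_self _)
    by_cases hβ : β = 0
    · rw [hβ, zero_smul, add_zero, smul_eq_zero] at hvi
      rw [hvi.resolve_right hy0, hβ]; simp
    · exfalso
      refine hB i _ (T.comp_mem i y) hy0 (Submodule.mem_span_singleton_self _)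
        (Submodule.mem_span_singleton.mpr ⟨-(β⁻¹ * α), ?_⟩)
      have h3 : β • T.comp i y' = -(α • T.comp i y) := by rwa [eq_neg_iff_add_eq_zero, add_comm]
      rw [← one_smul F (T.comp i y'), ← inv_mul_cancel₀ hβ, mul_smul, h3]
      module
  have hfixed : ∀ (i : Fin t) (v : ι → F), v ∈ D i → QuadraticMap.polar (⇑Q) y v = 0 →
      QuadraticMap.polar (⇑Q) y' v = 0 → v = 0 := by
    intro i v hv e1 e2
    by_contra hv0
    rw [hperp i v hv] at e1 e2
    have hyi : T.comp i y ≠ 0 := fun e0 => h1 (by rw [hinjW i y hyW e0, QuadraticMap.map_zero])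
    have hind' : T.comp i y' ∉ Submodule.span F {T.comp i y} := fun hs => by
      obtain ⟨r, hr'⟩ := Submodule.mem_span_singleton.mp hs
      have := hind r (-1) (hinjW i _ (W.add_mem (W.smul_mem _ hyW) (W.smul_mem _ hy'W))
        (by rw [map_add, map_smul, map_smul, hr']; module))
      exact neg_ne_zero.mpr one_ne_zero this.2
    obtain ⟨-, w, hw, hvw⟩ := T.nd i v hv hv0
    obtain ⟨γ, δ, rfl⟩ := Submodule.mem_span_pair.mp
      (T.plane_span hk (T.comp_mem i y) (T.comp_mem i y') hyi hind' hw)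
    apply hvw
    rw [QuadraticMap.polar_add_right, QuadraticMap.polar_smul_right, QuadraticMap.polar_smul_right,
      QuadraticMap.polar_comm (⇑Q) v, e1, QuadraticMap.polar_comm (⇑Q) v, e2, smul_zero, smul_zero, add_zero]
  have hmoves : ∀ i, ∀ v ∈ D i, mat Q h *ᵥ v = v → v = 0 := by
    intro i v hv hv'
    rw [hh, mv_mul] at hv'
    have hv'' := congrArg (fun w => mat Q (refl Q y h1) *ᵥ w) hv'
    rw [← mv_mul Q (refl Q y h1), refl_mul_self, mv_one, mv_refl, mv_refl, hQy, hQy', _root_.inv_one,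
      one_mul, one_mul, sub_right_inj] at hv''
    obtain ⟨e1, e2⟩ := hind (-QuadraticMap.polar (⇑Q) y v) (QuadraticMap.polar (⇑Q) y' v) (by rw [hv'']; module)
    exact hfixed i v hv (neg_eq_zero.mp e1) e2
  set b₀ : Fin t := ⟨0, by omega⟩
  have hL : ∀ l, l ≠ b₀ → ∀ d ∈ D b₀, T.comp l (mat Q h⁻¹ *ᵥ d) = 0 → d = 0 := by
    intro l hl d hd e0
    have hW' : mat Q h⁻¹ *ᵥ d - d ∈ W := by
      have := hr (mat Q h⁻¹ *ᵥ d)
      rw [mv_inv] at this
      simpa using W.neg_mem this
    have := hinjW l _ hW' (by rw [map_sub, e0, T.comp_ne hl hd, sub_zero])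
    refine hmoves b₀ d hd ?_
    conv_lhs => rw [← sub_eq_zero.mp this]
    exact mv_inv Q h d
  obtain ⟨d, hd, hQd, hrows⟩ : ∃ d ∈ D b₀, Q d ≠ 0 ∧ 3 ≤ ((Finset.univ.erase b₀).filter
      (fun l => Q (T.comp l (mat Q h⁻¹ *ᵥ d)) ≠ 0)).card := by
    by_cases hplus : ∃ s ∈ D b₀, s ≠ 0 ∧ Q s = 0
    · obtain ⟨s, hs, hs0, hQs⟩ := hplus
      have hq := T.two_plus hk b₀ s hs hs0 hQs
      obtain ⟨p, hp, hQp, hsp⟩ := T.exists_singular_pair hk hs hs0 hQs
      by_contra hcon
      push Not at hcon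
      set U := (Finset.univ : Finset F).erase 0
      set R := (Finset.univ : Finset (Fin t)).erase b₀
      have hQr : ∀ r : F, Q (s + r • p) = r := fun r => by
        rw [QuadraticMap.map_add (f := Q), QuadraticMap.map_smul, hQs, hQp, QuadraticMap.polar_smul_right, hsp]
        simp
      have hU : U.card = Fintype.card F - 1 := by simp [U]
      have hR : R.card = t - 1 := by simp [R]
      have hlow : ∀ r ∈ U, R.card ≤ (R.filter fun l => Q (T.comp l (mat Q h⁻¹ *ᵥ (s + r • p))) = 0).card + 2 := by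
        intro r hr'
        have h3 := hcon (s + r • p) ((D b₀).add_mem hs ((D b₀).smul_mem _ hp))
          (by rw [hQr]; exact (Finset.mem_erase.mp hr').1)
        have h3' : (R.filter fun l => ¬ Q (T.comp l (mat Q h⁻¹ *ᵥ (s + r • p))) = 0).card < 3 := h3
        have := Finset.card_filter_add_card_filter_not (s := R)
          (fun l => Q (T.comp l (mat Q h⁻¹ *ᵥ (s + r • p))) = 0)
        omega
      have hup : ∀ l ∈ R, (U.filter fun r => Q (T.comp l (mat Q h⁻¹ *ᵥ (s + r • p))) = 0).card ≤ 2 := by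
        intro l hl
        by_contra hgt
        push Not at hgt
        obtain ⟨r1, r2, r3, hr1, hr2, hr3, h12, h13, h23⟩ := Finset.two_lt_card_iff.mp hgt
        simp only [Finset.mem_filter] at hr1 hr2 hr3
        set A := T.comp l (mat Q h⁻¹ *ᵥ s)
        set B := T.comp l (mat Q h⁻¹ *ᵥ p)
        have hl' := (Finset.mem_erase.mp hl).1
        have heq : ∀ r : F, Q (T.comp l (mat Q h⁻¹ *ᵥ (s + r • p))) =
            Q A + r * QuadraticMap.polar (⇑Q) A B + r * r * Q B := fun r => by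
          rw [Matrix.mulVec_add, Matrix.mulVec_smul, map_add, map_smul, QuadraticMap.map_add (f := Q),
            QuadraticMap.map_smul, QuadraticMap.polar_smul_right]
          simp only [smul_eq_mul, A, B]
          ring
        rw [heq] at hr1 hr2 hr3
        have f1 : QuadraticMap.polar (⇑Q) A B + (r1 + r2) * Q B = 0 :=
          (mul_eq_zero.mp (show (r1 - r2) * _ = 0 by linear_combination hr1.2 - hr2.2)).resolve_left
            (sub_ne_zero.mpr h12)
        have f2 : QuadraticMap.polar (⇑Q) A B + (r1 + r3) * Q B = 0 :=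
          (mul_eq_zero.mp (show (r1 - r3) * _ = 0 by linear_combination hr1.2 - hr3.2)).resolve_left
            (sub_ne_zero.mpr h13)
        have hB0 : Q B = 0 :=
          (mul_eq_zero.mp (show (r2 - r3) * Q B = 0 by linear_combination f1 - f2)).resolve_left
            (sub_ne_zero.mpr h23)
        have hAB : QuadraticMap.polar (⇑Q) A B = 0 := by rw [hB0, mul_zero, add_zero] at f1; exact f1
        have hA0 : A ≠ 0 := fun e0 => hs0 (hL l hl' s hs e0)
        have hBA : B ∉ Submodule.span F {A} := fun hsp' => by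
          obtain ⟨r, hr'⟩ := Submodule.mem_span_singleton.mp hsp'
          have h0 := hL l hl' (r • s + (-1 : F) • p) ((D b₀).add_mem ((D b₀).smul_mem _ hs) ((D b₀).smul_mem _ hp))
            (by rw [Matrix.mulVec_add, Matrix.mulVec_smul, Matrix.mulVec_smul, map_add, map_smul, map_smul, hr']
                module)
          have := congrArg (QuadraticMap.polar (⇑Q) s) h0
          rw [QuadraticMap.polar_add_right, QuadraticMap.polar_smul_right, QuadraticMap.polar_smul_right,
            perp_self Q hQs, hsp, QuadraticMap.polar_zero_right] at this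
          simp at this
        obtain ⟨w, hw, hQw⟩ := exists_nonsingular (T.nd l) (fun e0 => hA0 (by
          have := T.comp_mem l (mat Q h⁻¹ *ᵥ s); rw [e0] at this; simpa using this))
        obtain ⟨γ, δ, rfl⟩ := Submodule.mem_span_pair.mp
          (T.plane_span hk (T.comp_mem l _) (T.comp_mem l _) hA0 hBA hw)
        apply hQw
        rw [hB0, hAB] at hr1
        rw [QuadraticMap.map_add (f := Q), QuadraticMap.map_smul, QuadraticMap.map_smul,
          QuadraticMap.polar_smul_left, QuadraticMap.polar_smul_right, hB0, hAB]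
        simp only [mul_zero, add_zero] at hr1
        rw [hr1.2]
        simp
      have hcount := Finset.sum_le_sum hlow
      rw [Finset.sum_const, Finset.sum_add_distrib, Finset.sum_const, smul_eq_mul, smul_eq_mul] at hcount
      have hswap : ∑ r ∈ U, (R.filter fun l => Q (T.comp l (mat Q h⁻¹ *ᵥ (s + r • p))) = 0).card =
          ∑ l ∈ R, (U.filter fun r => Q (T.comp l (mat Q h⁻¹ *ᵥ (s + r • p))) = 0).card := by
        simp only [Finset.card_filter]
        exact Finset.sum_comm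
      have h4 := Finset.sum_le_sum hup
      rw [Finset.sum_const, smul_eq_mul] at h4
      have hU6 : 6 ≤ U.card := by omega
      have hR4 : 4 ≤ R.card := by omega
      nlinarith
    · push Not at hplus
      obtain ⟨d, hd, hQd⟩ := exists_nonsingular (T.nd b₀) (fun e0 => by
        have := T.finrank_eq b₀; rw [e0, finrank_bot] at this; omega)
      refine ⟨d, hd, hQd, ?_⟩
      rw [Finset.filter_true_of_mem, Finset.card_erase_of_mem (Finset.mem_univ _), Finset.card_univ,
        Fintype.card_fin]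
      · omega
      intro l hl e0
      obtain ⟨ev, hev⟩ := T.decomp.isometric l b₀
      have hne : T.comp l (mat Q h⁻¹ *ᵥ d) ≠ 0 := fun e1 => hQd (by
        rw [hL l (Finset.mem_erase.mp hl).1 d hd e1, QuadraticMap.map_zero])
      set v : D l := ⟨_, T.comp_mem l (mat Q h⁻¹ *ᵥ d)⟩
      refine hplus (ev v) (Subtype.coe_prop _) (fun e1 => hne ?_) ((hev v).trans e0)
      exact congrArg Subtype.val (ev.map_eq_zero_iff.mp (Subtype.ext e1))
  obtain ⟨l₁, l₂, l₃, hl₁, hl₂, hl₃, h12, h13, h23⟩ := Finset.two_lt_card_iff.mp (show 2 < _ from hrows)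
  simp only [Finset.mem_filter, Finset.mem_erase, Finset.mem_univ, and_true] at hl₁ hl₂ hl₃
  obtain ⟨v₁, hv₁, hQv₁, hp₁⟩ := T.exists_side hk (T.comp_mem l₁ _) hl₁.2
  obtain ⟨v₂, hv₂, hQv₂, hp₂⟩ := T.exists_side hk (T.comp_mem l₂ _) hl₂.2
  obtain ⟨v₃, hv₃, hQv₃, hp₃⟩ := T.exists_side hk (T.comp_mem l₃ _) hl₃.2
  obtain ⟨l, l', v, w, hll, hv, hw, hQv, hQw, hpv, hpw, hsq'⟩ : ∃ l l' : Fin t, ∃ v w : ι → F, l ≠ l' ∧ v ∈ D l ∧
      w ∈ D l' ∧ Q v ≠ 0 ∧ Q w ≠ 0 ∧ QuadraticMap.polar (⇑Q) v (T.comp l (mat Q h⁻¹ *ᵥ d)) = 0 ∧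
        QuadraticMap.polar (⇑Q) w (T.comp l' (mat Q h⁻¹ *ᵥ d)) = 0 ∧ IsSquare (Q v * Q w) := by
    by_cases h20 : (2 : F) = 0
    · exact ⟨l₁, l₂, v₁, v₂, h12, hv₁, hv₂, hQv₁, hQv₂, hp₁, hp₂, by
        obtain ⟨r, hr'⟩ := exists_sqrt_two h20 (Q v₁ * Q v₂); exact ⟨r, hr'.symm⟩⟩
    rcases exists_square_pair h20 hQv₁ hQv₂ hQv₃ with hs | hs | hs
    · exact ⟨l₁, l₂, v₁, v₂, h12, hv₁, hv₂, hQv₁, hQv₂, hp₁, hp₂, hs⟩
    · exact ⟨l₂, l₃, v₂, v₃, h23, hv₂, hv₃, hQv₂, hQv₃, hp₂, hp₃, hs⟩
    · exact ⟨l₁, l₃, v₁, v₃, h13, hv₁, hv₃, hQv₁, hQv₃, hp₁, hp₃, hs⟩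
  obtain ⟨r, hr'⟩ := scale_value hQw hsq'
  set w' := r • w
  have hw' : w' ∈ D l' := (D l').smul_mem _ hw
  have hQw' : Q w' ≠ 0 := hr' ▸ hQv
  set Y := mat Q h *ᵥ v with hY
  set Y' := mat Q h *ᵥ w' with hY'
  have hY1 : Q Y ≠ 0 := by rw [Q_act]; exact hQv
  have hY2 : Q Y' ≠ 0 := by rw [Q_act]; exact hQw'
  have hmem : refl Q Y hY1 * refl Q Y' hY2 ∈ K := by
    have e := K.mul_mem (K.mul_mem hhK (T.pair_mem hK hv hw' hQv hQw' hr'.symm)) (K.inv_mem hhK)
    rwa [show h * (refl Q v hQv * refl Q w' hQw') * h⁻¹ = (h * refl Q v hQv * h⁻¹) * (h * refl Q w' hQw' * h⁻¹) by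
      group, refl_conj, refl_conj] at e
  have hperpd : ∀ (u : ι → F) (lu : Fin t), u ∈ D lu →
      QuadraticMap.polar (⇑Q) u (T.comp lu (mat Q h⁻¹ *ᵥ d)) = 0 →
      QuadraticMap.polar (⇑Q) (mat Q h *ᵥ u) d = 0 := by
    intro u lu hu e0
    conv_lhs => rw [← mv_inv Q h d]
    rw [polar_act, T.form hu, e0]
  refine Or.inl (T.good_of_fix hK hmem ?_ hd hQd ?_)
  · intro hp
    obtain ⟨-, x, hx, hvx⟩ := T.nd l v hv (fun e0 => hQv (by rw [e0, QuadraticMap.map_zero]))
    set X := mat Q h *ᵥ x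
    obtain ⟨p, r', hout⟩ := (T.perms_moved hp (Submodule.span F ({Y, Y'} : Set (ι → F))) (finrank_pair_le Y Y')
      (fun x => by
        rw [mv_mul, mv_refl Q Y hY1, mv_refl Q Y' hY2, sub_right_comm, sub_sub_cancel_left]
        exact sub_mem (neg_mem (Submodule.smul_mem _ _ (Submodule.subset_span (by simp))))
          (Submodule.smul_mem _ _ (Submodule.subset_span (by simp)))) X).2
    have hY'X : QuadraticMap.polar (⇑Q) Y' X = 0 := by
      rw [hY', polar_act]; exact T.orth hll.symm hw' hx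
    obtain ⟨o, ho⟩ := T.exists_avoid {p, r', l} (Finset.card_le_three.trans_lt (by omega))
    simp only [Finset.mem_insert, Finset.mem_singleton, not_or] at ho
    have h0 := hout o ho.1 ho.2.1
    rw [mv_mul, mv_refl_fix Q Y' hY2 hY'X, mv_refl, sub_sub_cancel_left, map_neg, map_smul, neg_eq_zero,
      smul_eq_zero] at h0
    have hc : (Q Y)⁻¹ * QuadraticMap.polar (⇑Q) Y X ≠ 0 := mul_ne_zero (inv_ne_zero hY1) (by
      rw [hY, polar_act]; exact hvx)
    have hYo := h0.resolve_left hc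
    have := hinjW o _ (hr v) (by rw [map_sub, ← hY, hYo, T.comp_ne ho.2.2 hv, sub_zero])
    exact hQv (by rw [hmoves l v hv (sub_eq_zero.mp this), QuadraticMap.map_zero])
  · rw [mv_mul, mv_refl_fix Q Y' hY2 (hperpd w' l' hw' (by
      rw [QuadraticMap.polar_smul_left, hpw, smul_zero])), mv_refl_fix Q Y hY1 (hperpd v l hv hpv)]

end K

end GSplit

end Cfsg.Lib.Classical.DecompGen
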