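import Cfsg.Agent.Classical.Orth.DecompGen.Find
import Cfsg.Agent.Classical.Orth.FamilyOvergroups

/-! The stabiliser of an orthogonal decomposition is maximal. -/

set_option autoImplicit false
set_option linter.unusedSimpArgs false
set_option linter.unusedSectionVars false
set_option linter.style.haveILetI false
set_option linter.flexible false

namespace Cfsg.Lib.Classical.DecompGen

open Matrix Cfsg.Lib.Classical.Refl

universe u

variable {F : Type u} [Field F] [Fintype F] {ι : Type} [Fintype ι] [DecidableEq ι]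
variable {Q : QuadraticForm F (ι → F)}

namespace GSplit

variable {t k : ℕ} {D : Fin t → Submodule F (ι → F)} (T : GSplit Q k D)
include T

theorem omega_le {K : Subgroup (Cfsg.isometryGroup F (⇑Q))}
    (hK : ∀ g ∈ Cfsg.Omega F (⇑Q), Perms Q D g → g ∈ K) {g : Cfsg.isometryGroup F (⇑Q)} (hg : g ∈ K)
    (hbad : ¬ Perms Q D g) : Cfsg.Omega F (⇑Q) ≤ K := by
  obtain ⟨u, z, i, i', j, R⟩ : ∃ u z i i' j, Root T K u z i i' j := by
    rcases T.dim with hk | hk
    · rcases T.good_or_root hK hk hg hbad with ⟨x, hx⟩ | h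
      · exact T.root_of_good hK hx
      · exact h
    · obtain ⟨x, hx⟩ := T.good_of_big hK hk hg hbad
      exact T.root_of_good hK hx
  exact T.omega_le_of_root hK R

theorem exists_off_omega : ∃ g ∈ Cfsg.Omega F (⇑Q), ¬ Perms Q D g := by
  classical
  set i₀ : Fin t := ⟨0, by have := T.two_le; omega⟩
  set i₁ : Fin t := ⟨1, by have := T.two_le; omega⟩
  have h01 : i₀ ≠ i₁ := by simp [i₀, i₁, Fin.ext_iff]
  have key : ∀ x : ι → F, Q x = 1 → (∀ h : Q x ≠ 0, ¬ Perms Q D (refl Q x h)) →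
      ∃ g ∈ Cfsg.Omega F (⇑Q), ¬ Perms Q D g := by
    intro x hQx hx
    obtain ⟨f, hf, hQf⟩ := T.exists_value i₀ 1
    have h1 : Q x ≠ 0 := hQx ▸ one_ne_zero
    have h2 : Q f ≠ 0 := hQf ▸ one_ne_zero
    refine ⟨_, refl_pair_mem_omega Q T.nondeg h2 h1 (hQf.trans hQx.symm), fun hp => hx h1 ?_⟩
    have := perms_mul hp (T.refl_perms h2 hf)
    rwa [mul_assoc, refl_mul_self, mul_one] at this
  have hmoved : ∀ (x : ι → F) (h : Q x ≠ 0), Perms Q D (refl Q x h) →
      (4 ≤ k → ∀ l, T.comp l x ∈ Submodule.span F {x}) ∧ ∃ a b, ∀ l, l ≠ a → l ≠ b → T.comp l x = 0 := by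
    intro x h hp
    obtain ⟨v, hv⟩ : ∃ v, QuadraticMap.polar (⇑Q) x v ≠ 0 := by
      by_contra hcon
      push Not at hcon
      exact h (by rw [T.nondeg.1 x hcon, QuadraticMap.map_zero])
    have hc : -((Q x)⁻¹ * QuadraticMap.polar (⇑Q) x v) ≠ 0 := neg_ne_zero.mpr (mul_ne_zero (inv_ne_zero h) hv)
    have e : mat Q (refl Q x h) *ᵥ v - v = (-((Q x)⁻¹ * QuadraticMap.polar (⇑Q) x v)) • x := by
      rw [mv_refl]; module
    have hx0 : x ≠ 0 := fun e => h (by rw [e, QuadraticMap.map_zero])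
    obtain ⟨h1, a, b, h2⟩ := T.perms_moved hp (Submodule.span F {x})
      (by rw [finrank_span_singleton hx0]; omega)
      (fun y => by
        rw [mv_refl, sub_sub_cancel_left]
        exact neg_mem (Submodule.smul_mem _ _ (Submodule.mem_span_singleton_self x))) v
    refine ⟨fun hk l => ?_, a, b, fun l hla hlb => ?_⟩
    · have := h1 hk l
      rwa [e, map_smul, Submodule.smul_mem_iff _ hc] at this
    · have := h2 l hla hlb
      rw [e, map_smul, smul_eq_zero] at this
      exact this.resolve_left hc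
  rcases T.dim with hk | hk
  · have ht := T.seven_le hk
    set i₂ : Fin t := ⟨2, by omega⟩
    have h02 : i₀ ≠ i₂ := by simp [i₀, i₂, Fin.ext_iff]
    have h12 : i₁ ≠ i₂ := by simp [i₁, i₂, Fin.ext_iff]
    obtain ⟨a, ha, hQa⟩ := T.exists_value i₀ 1
    obtain ⟨b, hb, hQb⟩ := T.exists_value i₁ 1
    obtain ⟨c, hc, hQc⟩ := T.exists_value i₂ (-1)
    refine key (a + b + c) ?_ fun h hp => ?_
    · rw [QuadraticMap.map_add (f := Q), QuadraticMap.map_add (f := Q), QuadraticMap.polar_add_left, T.orth h01 ha hb,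
        T.orth h02 ha hc, T.orth h12 hb hc, hQa, hQb, hQc]
      ring
    obtain ⟨-, p, q, hpq⟩ := hmoved _ h hp
    have e0 : T.comp i₀ (a + b + c) = a := by
      rw [map_add, map_add, T.comp_self ha, T.comp_ne h01 hb, T.comp_ne h02 hc, add_zero, add_zero]
    have e1 : T.comp i₁ (a + b + c) = b := by
      rw [map_add, map_add, T.comp_ne h01.symm ha, T.comp_self hb, T.comp_ne h12 hc, zero_add, add_zero]
    have e2 : T.comp i₂ (a + b + c) = c := by
      rw [map_add, map_add, T.comp_ne h02.symm ha, T.comp_ne h12.symm hb, T.comp_self hc, zero_add, zero_add]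
    have ne0 : ∀ (v : ι → F) (μ : F), Q v = μ → μ ≠ 0 → v ≠ 0 := fun v μ hv hμ e =>
      hμ (by rw [← hv, e, QuadraticMap.map_zero])
    have hmem : ∀ l, T.comp l (a + b + c) ≠ 0 → l = p ∨ l = q := fun l hl => by
      by_contra hcon
      push Not at hcon
      exact hl (hpq l hcon.1 hcon.2)
    have m0 := hmem i₀ (by rw [e0]; exact ne0 a 1 hQa one_ne_zero)
    have m1 := hmem i₁ (by rw [e1]; exact ne0 b 1 hQb one_ne_zero)
    have m2 := hmem i₂ (by rw [e2]; exact ne0 c (-1) hQc (neg_ne_zero.mpr one_ne_zero))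
    rcases m0 with h0 | h0 <;> rcases m1 with h1 | h1 <;> rcases m2 with h2 | h2
    all_goals first
      | exact h01 (h0.trans h1.symm)
      | exact h02 (h0.trans h2.symm)
      | exact h12 (h1.trans h2.symm)
  · obtain ⟨a, ha, hQa⟩ := T.exists_value i₀ 1
    obtain ⟨b, hb, hb0, hQb⟩ := T.exists_singular_member hk i₁
    refine key (a + b) ?_ fun h hp => ?_
    · rw [QuadraticMap.map_add (f := Q), hQa, hQb, T.orth h01 ha hb]; simp
    have e1 := (hmoved _ h hp).1 hk i₁
    rw [map_add, T.comp_ne h01.symm ha, T.comp_self hb, zero_add] at e1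
    obtain ⟨r, hr⟩ := Submodule.mem_span_singleton.mp e1
    have ea := congrArg (T.comp i₀) hr
    rw [map_smul, map_add, T.comp_self ha, T.comp_ne h01 hb, add_zero, smul_eq_zero] at ea
    rcases ea with ea | ea
    · exact hb0 (by rw [← hr, ea, zero_smul])
    · rw [ea, QuadraticMap.map_zero] at hQa
      exact zero_ne_one hQa

theorem maximal :
    Cfsg.Geo.IsMaximalIn (Cfsg.Geo.omegaGL (⇑Q)) (Cfsg.Geo.decompositionStabilizer D ⊓ Cfsg.Geo.omegaGL (⇑Q)) := by
  classical
  have hiff : ∀ h : Cfsg.isometryGroup F (⇑Q),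
      (h : GL ι F) ∈ Cfsg.Geo.decompositionStabilizer D ↔ Perms Q D h := by
    intro h
    refine exists_congr fun σ => forall_congr' fun l => ⟨fun e x hx => ?_, fun e => ?_⟩
    · rw [← e]; exact Submodule.mem_map_of_mem hx
    · exact Submodule.eq_of_le_of_finrank_le (by rintro _ ⟨x, hx, rfl⟩; exact e x hx) (by
        rw [show Module.finrank F ((D l).map (Matrix.toLin' ((h : GL ι F) : Matrix ι ι F))) = Module.finrank F (D l) from
          LinearEquiv.finrank_map_eq (Matrix.toLinearEquiv' (mat Q h) (h : GL ι F).invertible) (D l),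
          T.finrank_eq, T.finrank_eq])
  refine ⟨lt_of_le_of_ne inf_le_right fun heq => ?_, fun M hHM hMO => ?_⟩
  · obtain ⟨g, hg, hgP⟩ := T.exists_off_omega
    have : (g : GL ι F) ∈ Cfsg.Geo.decompositionStabilizer D ⊓ Cfsg.Geo.omegaGL (⇑Q) :=
      heq.symm ▸ (mem_omegaGL Q _).mpr ⟨g, hg, rfl⟩
    exact hgP ((hiff g).mp this.1)
  · by_cases hM : M ≤ Cfsg.Geo.decompositionStabilizer D
    · exact Or.inl (le_antisymm (le_inf hM hMO) hHM)
    right
    obtain ⟨g, hgM, hgW⟩ := SetLike.not_le_iff_exists.mp hM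
    obtain ⟨g₀, -, rfl⟩ := (mem_omegaGL Q g).mp (hMO hgM)
    have h := T.omega_le (K := M.comap (Cfsg.isometryGroup F (⇑Q)).subtype)
      (fun x hx hxW => hHM ⟨(hiff x).mpr hxW, (mem_omegaGL Q _).mpr ⟨x, hx, rfl⟩⟩)
      (show g₀ ∈ _ from hgM) (fun hb => hgW ((hiff g₀).mpr hb))
    refine le_antisymm hMO fun x hx => ?_
    obtain ⟨y, hy, rfl⟩ := (mem_omegaGL Q x).mp hx
    exact h hy

end GSplit

variable {t : ℕ} {k : ℕ} {D : Fin t → Submodule F (ι → F)}

theorem plus_transfer (hD : Cfsg.Geo.IsOrthogonalMDecomposition (⇑Q) k D) {i : Fin t}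
    (h : Cfsg.Geo.IsPlusTypeOn (⇑Q) (D i)) (j : Fin t) : Cfsg.Geo.IsPlusTypeOn (⇑Q) (D j) := by
  obtain ⟨U, hU, hTS, hr⟩ := h
  obtain ⟨e, he⟩ := hD.isometric i j
  let φ : U →ₗ[F] (ι → F) := (D j).subtype ∘ₗ e.toLinearMap ∘ₗ Submodule.inclusion hU
  refine ⟨LinearMap.range φ, ?_, ?_, ?_⟩
  · rintro _ ⟨x, rfl⟩; exact Subtype.coe_prop _
  · rintro _ ⟨x, rfl⟩
    exact (he _).trans (hTS x x.2)
  · have hφ : Function.Injective φ :=
      Subtype.val_injective.comp (e.injective.comp (Submodule.inclusion_injective hU))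
    rw [LinearMap.finrank_range_of_inj hφ, hr, hD.decomp.decomp.finrank_eq, hD.decomp.decomp.finrank_eq]

theorem card_ne_six : Fintype.card F ≠ 6 := by
  intro h
  have h1 := FiniteField.isPrimePow_card F
  rw [h] at h1
  obtain ⟨p, m, hp, hm, he⟩ := (isPrimePow_nat_iff _).mp h1
  have : p ∣ 6 := he ▸ dvd_pow_self p (by omega)
  have hle := Nat.le_of_dvd (by norm_num) this
  have hm3 : m < 3 := by
    by_contra hm3
    have : 2 ^ 3 ≤ p ^ m := (Nat.pow_le_pow_left hp.two_le 3).trans (Nat.pow_le_pow_right hp.pos (by omega))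
    omega
  interval_cases p <;> interval_cases m <;> simp_all <;> norm_num at hp

theorem maximal_of_exclusions (hnd : (QuadraticMap.polarBilin Q).Nondegenerate) (hbig : 9 ≤ Fintype.card ι)
    (ht : 2 ≤ t) (hk : 2 ≤ k) (hD : Cfsg.Geo.IsOrthogonalMDecomposition (⇑Q) k D)
    (hko : Odd k → Odd (Fintype.card F))
    (h23 : k = 2 → Fintype.card F ≠ 3) (h33 : k = 3 → Fintype.card F ≠ 3)
    (h2p : k = 2 → (∀ i, Cfsg.Geo.IsPlusTypeOn (⇑Q) (D i)) → Fintype.card F ≠ 2 ∧ Fintype.card F ≠ 4 ∧ Fintype.card F ≠ 5)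
    (h42 : k = 4 → Fintype.card F = 2 → ¬ ∀ i, Cfsg.Geo.IsPlusTypeOn (⇑Q) (D i)) :
    Cfsg.Geo.IsMaximalIn (Cfsg.Geo.omegaGL (⇑Q)) (Cfsg.Geo.decompositionStabilizer D ⊓ Cfsg.Geo.omegaGL (⇑Q)) := by
  classical
  by_cases hk3 : k = 3
  · have hodd := hko (hk3 ▸ ⟨1, rfl⟩)
    have hq := h33 hk3
    have h1 := Fintype.one_lt_card (α := F)
    have hmod : Fintype.card F % 2 = 1 := Nat.odd_iff.mp hodd
    have h20 : (2 : F) ≠ 0 := fun h => by
      haveI : CharP F 2 := CharTwo.of_one_ne_zero_of_two_eq_zero one_ne_zero h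
      have := FiniteField.even_card_of_char_two (ringChar.eq F 2)
      omega
    have ht3 : 3 ≤ t := by
      have hsum : ∀ s : Finset (Fin t), Module.finrank F ↥(s.sup D) ≤ k * s.card := by
        intro s
        induction s using Finset.induction with
        | empty => simp
        | insert a s has ih =>
          rw [Finset.sup_insert, Finset.card_insert_of_notMem has]
          have h2 := Submodule.finrank_sup_add_finrank_inf_eq (D a) (s.sup D)
          rw [hD.decomp.decomp.finrank_eq] at h2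
          rw [Nat.mul_add]
          omega
      have h2 := hsum Finset.univ
      rw [Finset.sup_univ_eq_iSup, hD.decomp.decomp.iSup_eq_top, finrank_top, Module.finrank_fintype_fun_eq_card,
        Finset.card_univ, Fintype.card_fin, hk3] at h2
      omega
    exact Cfsg.Lib.Classical.Refl.decomposition_maximal
      ⟨hnd, h20, hD, ht3, by omega, Or.inl (by omega)⟩ (by omega)
  · refine GSplit.maximal ⟨hnd, hD, by omega, ht, hbig, h23, fun hk2 i s hs hs0 hQs => ?_, fun hk4 hq i a ha b hb hQa hQb hab => ?_⟩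
    · have hp : ∀ j, Cfsg.Geo.IsPlusTypeOn (⇑Q) (D j) := plus_transfer hD (i := i) ⟨Submodule.span F {s},
        (Submodule.span_singleton_le_iff_mem _ _).mpr hs, fun w hw => by
          obtain ⟨r, rfl⟩ := Submodule.mem_span_singleton.mp hw
          rw [QuadraticMap.map_smul, hQs, smul_zero], by
          rw [finrank_span_singleton hs0, hD.decomp.decomp.finrank_eq, hk2]⟩
      obtain ⟨e2, e4, e5⟩ := h2p hk2 hp
      have e3 := h23 hk2
      have e6 := card_ne_six (F := F)
      have := Fintype.one_lt_card (α := F)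
      omega
    · by_contra hlt
      push Not at hlt
      have hle := finrank_pair_le (F := F) a b
      refine h42 hk4 hq (plus_transfer hD (i := i) ⟨Submodule.span F {a, b},
        Submodule.span_le.mpr (by rintro x (rfl | rfl) <;> assumption), fun w hw => ?_, by
          rw [hD.decomp.decomp.finrank_eq, hk4]; omega⟩)
      obtain ⟨α, β, rfl⟩ := Submodule.mem_span_pair.mp hw
      rw [val_lin Q hab, hQa, hQb]
      simp

end Cfsg.Lib.Classical.DecompGen
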