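import Cfsg.Agent.Classical.Orth.DecompGen.Basic
import Cfsg.Agent.Classical.Orth.DecompMax

/-! A root element off the stabiliser of a decomposition generates `Ω` with it. -/

set_option autoImplicit false
set_option linter.unusedSimpArgs false
set_option linter.unusedSectionVars false
set_option linter.style.haveILetI false
set_option linter.flexible false

namespace Cfsg.Lib.Classical.DecompGen

open Matrix Cfsg.Lib.Classical.Refl
open scoped commutatorElement

universe u

variable {F : Type u} [Field F] [Fintype F] {ι : Type} [Fintype ι] [DecidableEq ι]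
variable {Q : QuadraticForm F (ι → F)} {K : Subgroup (Cfsg.isometryGroup F (⇑Q))}

theorem siegelG_zero {u : ι → F} (hu : Q u = 0) (h : QuadraticMap.polar (⇑Q) u 0 = 0) : siegelG Q hu h = 1 :=
  ext_mulVec Q fun x => by rw [mat_siegelG, siegel_zero, mv_one]

theorem siegelG_left_zero {z : ι → F} (hu : Q (0 : ι → F) = 0) (h : QuadraticMap.polar (⇑Q) 0 z = 0) :
    siegelG Q hu h = 1 :=
  ext_mulVec Q fun x => by rw [mat_siegelG, mv_one]; simp [siegelMap]

/-- The vectors `z` with the Siegel element of `u` along `z` in `K`. -/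
def kset (Q : QuadraticForm F (ι → F)) (K : Subgroup (Cfsg.isometryGroup F (⇑Q))) (u : ι → F) :
    AddSubgroup (ι → F) where
  carrier := {z | QuadraticMap.polar (⇑Q) u z = 0 ∧
    ∀ (hu : Q u = 0) (h : QuadraticMap.polar (⇑Q) u z = 0), siegelG Q hu h ∈ K}
  add_mem' := by
    rintro a b ⟨ha, ha'⟩ ⟨hb, hb'⟩
    refine ⟨by rw [QuadraticMap.polar_add_right, ha, hb, add_zero], fun hu h => ?_⟩
    have e := K.mul_mem (ha' hu ha) (hb' hu hb)
    rwa [siegelG_mul] at e
  zero_mem' := ⟨by simp, fun hu h => by rw [siegelG_zero]; exact K.one_mem⟩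
  neg_mem' := by
    rintro a ⟨ha, ha'⟩
    have hn : QuadraticMap.polar (⇑Q) u (-a) = 0 := by rw [QuadraticMap.polar_neg_right, ha, neg_zero]
    refine ⟨hn, fun hu h => ?_⟩
    have e : siegelG Q hu h * siegelG Q hu ha = 1 := by
      rw [siegelG_mul]
      refine ext_mulVec Q fun x => ?_
      rw [mat_siegelG, neg_add_cancel, siegel_zero, mv_one]
    rw [eq_inv_of_mul_eq_one_left e]
    exact K.inv_mem (ha' hu ha)

theorem mem_kset {u z : ι → F} : z ∈ kset Q K u ↔ QuadraticMap.polar (⇑Q) u z = 0 ∧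
    ∀ (hu : Q u = 0) (h : QuadraticMap.polar (⇑Q) u z = 0), siegelG Q hu h ∈ K := Iff.rfl

theorem zset_iff {u z : ι → F} : z ∈ zset Q K u ↔ ∀ c : F, c • z ∈ kset Q K u := by
  constructor
  · intro h c
    exact ⟨by rw [QuadraticMap.polar_smul_right, h.1, smul_zero], fun hu h' => h.2 hu c h'⟩
  · intro h
    exact ⟨by simpa using (h 1).1, fun hu c hc => (h c).2 hu hc⟩

theorem kset_of_zset {u z : ι → F} (h : z ∈ zset Q K u) : z ∈ kset Q K u := by
  simpa using zset_iff.mp h 1

theorem kset_map {u z : ι → F} (h : z ∈ kset Q K u) {g : Cfsg.isometryGroup F (⇑Q)} (hg : g ∈ K) :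
    mat Q g *ᵥ z ∈ kset Q K (mat Q g *ᵥ u) := by
  refine ⟨by rw [polar_act, h.1], fun hu hc => ?_⟩
  have hu' : Q u = 0 := by rw [← Q_act Q g u]; exact hu
  have e := K.mul_mem (K.mul_mem hg (h.2 hu' h.1)) (K.inv_mem hg)
  rwa [siegelG_conj] at e

theorem zset_zero (z : ι → F) : z ∈ zset Q K 0 :=
  ⟨by rw [QuadraticMap.polar_zero_left], fun hu c hc => by rw [siegelG_left_zero]; exact K.one_mem⟩

/-- Two centres that see each other generate `Ω`. -/
theorem omega_le_of_two (hQ : (QuadraticMap.polarBilin Q).Nondegenerate) (hn : 5 ≤ Fintype.card ι) {a v : ι → F}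
    (ha : a ∈ sCentres Q K) (hv : v ∈ sCentres Q K) (hav : QuadraticMap.polar (⇑Q) a v ≠ 0) :
    Cfsg.Omega F (⇑Q) ≤ K := by
  have hstep : ∀ b w x : ι → F, b ∈ sCentres Q K → w ∈ sCentres Q K → QuadraticMap.polar (⇑Q) b w ≠ 0 →
      Q x = 0 → QuadraticMap.polar (⇑Q) b x ≠ 0 → x ∈ sCentres Q K := by
    intro b w x hb hw hbw hx hbx
    set β := QuadraticMap.polar (⇑Q) b x with hβ
    set a' := (β / QuadraticMap.polar (⇑Q) b w) • w with ha'
    have hba' : QuadraticMap.polar (⇑Q) b a' = β := by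
      rw [ha', QuadraticMap.polar_smul_right, smul_eq_mul, div_mul_cancel₀ _ hbw]
    have hQa' : Q a' = 0 := by rw [ha', QuadraticMap.map_smul, hw.1, smul_zero]
    have hbz : QuadraticMap.polar (⇑Q) b (β⁻¹ • (x - a')) = 0 := by
      rw [QuadraticMap.polar_smul_right, QuadraticMap.polar_sub_right, hba', sub_self, smul_zero]
    have h := sCentres_map (sCentres_smul hw (β / QuadraticMap.polar (⇑Q) b w)) (hb.2 _ hbz)
    convert h using 1
    rw [mat_siegelG, siegelMap, ← ha', hba', smul_smul, mul_inv_cancel₀ hbx, one_smul, add_sub_cancel]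
    have hc0 : -QuadraticMap.polar (⇑Q) (β⁻¹ • (x - a')) a' - Q (β⁻¹ • (x - a')) * β = 0 := by
      rw [QuadraticMap.polar_smul_left, QuadraticMap.map_smul, QuadraticMap.polar_sub_left, QuadraticMap.polar_self,
        hQa', sub_eq_add_neg x a', QuadraticMap.map_add (f := Q), hx, QuadraticMap.map_neg, hQa',
        QuadraticMap.polar_neg_right]
      simp only [smul_eq_mul, smul_zero, sub_zero, add_zero, zero_add]
      field_simp
      ring
    rw [hc0, zero_smul, add_zero]
  have hva : QuadraticMap.polar (⇑Q) v a ≠ 0 := by rwa [QuadraticMap.polar_comm]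
  have hall : ∀ x, Q x = 0 → x ∈ sCentres Q K := by
    intro x hx
    by_cases hax : QuadraticMap.polar (⇑Q) a x ≠ 0
    · exact hstep a v x ha hv hav hx hax
    push Not at hax
    by_cases hsp : x ∈ Submodule.span F {a}
    · obtain ⟨c, rfl⟩ := Submodule.mem_span_singleton.mp hsp
      exact sCentres_smul ha c
    by_cases hvx : QuadraticMap.polar (⇑Q) v x ≠ 0
    · exact hstep v a x hv ha hva hx hvx
    push Not at hvx
    obtain ⟨z, haz, hzx⟩ : ∃ z, QuadraticMap.polar (⇑Q) a z = 0 ∧ QuadraticMap.polar (⇑Q) z x ≠ 0 := by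
      by_contra hcon
      push Not at hcon
      refine hsp (Submodule.mem_span_singleton.mpr ⟨0, ?_⟩)
      rw [zero_smul]
      refine (T0 hQ x fun y => ?_).symm
      have h1 := hcon (y + (-QuadraticMap.polar (⇑Q) a y / QuadraticMap.polar (⇑Q) a v) • v) (by
        rw [QuadraticMap.polar_add_right, QuadraticMap.polar_smul_right, smul_eq_mul, div_mul_cancel₀ _ hav,
          add_neg_cancel])
      rwa [QuadraticMap.polar_add_left, QuadraticMap.polar_smul_left, hvx, smul_zero, add_zero] at h1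
    have hy := sCentres_map hv (ha.2 z haz)
    set y := mat Q (siegelG Q ha.1 haz) *ᵥ v with hy'
    have hya : QuadraticMap.polar (⇑Q) y a ≠ 0 := by
      have : mat Q (siegelG Q ha.1 haz) *ᵥ a = a := by
        rw [mat_siegelG, siegelMap, perp_self Q ha.1, QuadraticMap.polar_comm (⇑Q) z a, haz]; simp
      rw [hy']
      nth_rewrite 2 [← this]
      rwa [polar_act]
    refine hstep y a x hy ha hya hx ?_
    rw [hy', mat_siegelG, siegelMap, QuadraticMap.polar_add_left, QuadraticMap.polar_add_left,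
      QuadraticMap.polar_smul_left, QuadraticMap.polar_smul_left, hvx, hax, smul_zero, add_zero, zero_add,
      smul_eq_mul]
    exact mul_ne_zero hav hzx
  rw [omega_eq_closure_all Q hQ hn, Subgroup.closure_le]
  rintro _ ⟨u, z, hu, huz, rfl⟩
  exact (hall u hu).2 z huz
where
  T0 (hQ : (QuadraticMap.polarBilin Q).Nondegenerate) (x : ι → F) (h : ∀ y, QuadraticMap.polar (⇑Q) y x = 0) :
      x = 0 := hQ.2 x h

/-- A root element along a vector with at most two components. -/
structure Root {t k : ℕ} {D : Fin t → Submodule F (ι → F)} (T : GSplit Q k D)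
    (K : Subgroup (Cfsg.isometryGroup F (⇑Q))) (u z : ι → F) (i i' j : Fin t) : Prop where
  sing : Q u = 0
  ne : u ≠ 0
  mem : z ∈ kset Q K u
  supp : ∀ l, l ≠ i → l ≠ i' → T.comp l u = 0
  ne_left : j ≠ i
  ne_right : j ≠ i'
  comp_ne : T.comp j z ≠ 0
  same : 4 ≤ k → i' = i

namespace GSplit

variable {t k : ℕ} {D : Fin t → Submodule F (ι → F)} (T : GSplit Q k D)
include T

theorem exists_avoid (S : Finset (Fin t)) (h : S.card < t) : ∃ p, p ∉ S :=
  (Finset.card_lt_iff_ne_univ S).mp (by simpa using h) |> fun hne => not_forall.mp fun hall =>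
    hne (Finset.eq_univ_of_forall hall)

theorem comp_perm {g : Cfsg.isometryGroup F (⇑Q)} {σ : Equiv.Perm (Fin t)}
    (hσ : ∀ l, ∀ x ∈ D l, mat Q g *ᵥ x ∈ D (σ l)) (l : Fin t) (x : ι → F) :
    T.comp (σ l) (mat Q g *ᵥ x) = mat Q g *ᵥ T.comp l x := by
  conv_lhs => rw [← T.sum_comp x]
  rw [Matrix.mulVec_sum, map_sum, Finset.sum_eq_single l
    (fun m _ hm => T.comp_ne (σ.injective.ne hm.symm) (hσ m _ (T.comp_mem m x)))
    (fun h => absurd (Finset.mem_univ l) h), T.comp_self (hσ l _ (T.comp_mem l x))]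

theorem exists_one_seeing {i : Fin t} {v : ι → F} (hv : T.comp i v ≠ 0) :
    ∃ c ∈ D i, Q c = 1 ∧ QuadraticMap.polar (⇑Q) c v ≠ 0 := by
  by_contra hcon
  push Not at hcon
  obtain ⟨y, hy, hyv⟩ := T.see_member hv
  exact hyv (T.span_value i one_ne_zero (LinearMap.ker ((QuadraticMap.polarBilin Q).flip v)) hcon hy)

theorem value_perp (hk : 4 ≤ k) {i : Fin t} {a : ι → F} (ha : a ∈ D i) (ha0 : a ≠ 0) (hQa : Q a = 0) (μ : F) :
    ∃ c ∈ D i, Q c = μ ∧ QuadraticMap.polar (⇑Q) c a = 0 := by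
  obtain ⟨-, p, hp, hap⟩ := T.nd i a ha ha0
  have hS : Cfsg.Geo.IsNondegenerateOn (QuadraticMap.polar (⇑Q)) (Submodule.span F ({a, p} : Set (ι → F))) := by
    intro w hw hw0
    suffices hs : ∃ x ∈ Submodule.span F ({a, p} : Set (ι → F)), QuadraticMap.polar (⇑Q) w x ≠ 0 by
      obtain ⟨x, hx, h⟩ := hs
      exact ⟨⟨x, hx, by rwa [QuadraticMap.polar_comm]⟩, ⟨x, hx, h⟩⟩
    obtain ⟨α, β, rfl⟩ := Submodule.mem_span_pair.mp hw
    by_cases hβ : β = 0
    · subst hβ
      refine ⟨p, Submodule.subset_span (by simp), ?_⟩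
      rw [zero_smul, add_zero] at hw0 ⊢
      rw [QuadraticMap.polar_smul_left, smul_eq_mul]
      exact mul_ne_zero (fun e => hw0 (by rw [e, zero_smul])) hap
    · refine ⟨a, Submodule.subset_span (by simp), ?_⟩
      rw [QuadraticMap.polar_add_left, QuadraticMap.polar_smul_left, QuadraticMap.polar_smul_left, perp_self Q hQa,
        smul_zero, zero_add, smul_eq_mul, QuadraticMap.polar_comm (⇑Q) p a]
      exact mul_ne_zero hβ hap
  obtain ⟨hE, hEr⟩ := split_nondeg T.nondeg
    (Submodule.span_le.mpr (by rintro x (rfl | rfl) <;> assumption)) (T.nd i) hS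
  have := finrank_pair_le a p
  rw [T.finrank_eq] at hEr
  obtain ⟨c, hc, hQc⟩ := value_in hE (by omega) μ
  exact ⟨c, hc.1, hQc, by
    rw [QuadraticMap.polar_comm]; exact (HypQuad.mem_perp Q).mp hc.2 a (Submodule.subset_span (by simp))⟩

theorem exists_singular_member (hk : 4 ≤ k) (i : Fin t) : ∃ v ∈ D i, v ≠ 0 ∧ Q v = 0 :=
  exists_singular Q (D i) (by rw [T.finrank_eq]; omega)

section K

variable (hK : ∀ g ∈ Cfsg.Omega F (⇑Q), Perms Q D g → g ∈ K)
include hK

theorem pair_mem {a b : Fin t} {v w : ι → F} (hv : v ∈ D a) (hw : w ∈ D b) (hQv : Q v ≠ 0) (hQw : Q w ≠ 0)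
    (h : Q v = Q w) : refl Q v hQv * refl Q w hQw ∈ K :=
  hK _ (refl_pair_mem_omega Q T.nondeg hQw hQv h.symm) (perms_mul (T.refl_perms hQv hv) (T.refl_perms hQw hw))

theorem swaps_mem {a b c d : Fin t} (hab : a ≠ b) (hcd : c ≠ d) {g h : Cfsg.isometryGroup F (⇑Q)}
    (hg : IsSwap Q D a b g) (hh : IsSwap Q D c d h) : g * h ∈ K :=
  hK _ (T.swap_mul_omega hab hcd hg hh) (perms_mul (IsSwap.perms T hg) (IsSwap.perms T hh))

theorem exists_moving {j : Fin t} {v : ι → F} (hv : v ∈ D j) (hv0 : v ≠ 0) :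
    ∃ m ∈ K, (∀ x, T.comp j x = 0 → mat Q m *ᵥ x = x) ∧ mat Q m *ᵥ v ∈ D j ∧ mat Q m *ᵥ v ≠ v := by
  obtain ⟨c, hc, hQc, hcv⟩ := T.exists_one_seeing (v := v) (by rwa [T.comp_self hv])
  obtain ⟨c', hc', hQc', hne, -⟩ := T.exists_pair j one_ne_zero hc hQc
  have h1 : Q c ≠ 0 := by rw [hQc]; exact one_ne_zero
  have h2 : Q c' ≠ 0 := by rw [hQc']; exact one_ne_zero
  refine ⟨_, T.pair_mem hK hc hc' h1 h2 (hQc.trans hQc'.symm), fun x hx => ?_, ?_, ?_⟩
  · have hp : ∀ w ∈ D j, QuadraticMap.polar (⇑Q) w x = 0 := fun w hw => by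
      rw [T.form hw, hx, QuadraticMap.polar_zero_right]
    rw [mv_mul, mv_refl_fix Q c' h2 (hp c' hc'), mv_refl_fix Q c h1 (hp c hc)]
  · rw [mv_mul, mv_refl, mv_refl]
    exact (D j).sub_mem ((D j).sub_mem hv ((D j).smul_mem _ hc')) ((D j).smul_mem _ hc)
  · intro e
    have h := congrArg (fun y => mat Q (refl Q c h1) *ᵥ y) e
    rw [mv_mul, ← mv_mul Q (refl Q c h1) (refl Q c h1), refl_mul_self, mv_one, mv_refl, mv_refl, hQc, hQc'] at h
    simp only [inv_one, one_mul] at h
    have h' : QuadraticMap.polar (⇑Q) c' v • c' = QuadraticMap.polar (⇑Q) c v • c := sub_right_injective h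
    rcases eq_or_ne (QuadraticMap.polar (⇑Q) c' v) 0 with h0 | h0
    · rw [h0, zero_smul] at h'
      exact smul_ne_zero hcv (fun e' => h1 (by rw [e', QuadraticMap.map_zero])) h'.symm
    · refine hne (Submodule.mem_span_singleton.mpr ⟨QuadraticMap.polar (⇑Q) c v / QuadraticMap.polar (⇑Q) c' v, ?_⟩)
      rw [div_eq_inv_mul, mul_smul, ← h', smul_smul, inv_mul_cancel₀ h0, one_smul]

theorem refl_move {u z : ι → F} (hz : z ∈ kset Q K u) {j l : Fin t} {c c' : ι → F} (hc : c ∈ D j) (hc' : c' ∈ D l)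
    (hQc : Q c ≠ 0) (hQc' : Q c' = Q c) (hcu : QuadraticMap.polar (⇑Q) c u = 0)
    (hc'u : QuadraticMap.polar (⇑Q) c' u = 0) (hc'z : QuadraticMap.polar (⇑Q) c' z = 0) :
    ((Q c)⁻¹ * QuadraticMap.polar (⇑Q) c z) • c ∈ kset Q K u := by
  have h2 : Q c' ≠ 0 := hQc' ▸ hQc
  have h := kset_map hz (T.pair_mem hK hc hc' hQc h2 hQc'.symm)
  rw [mv_mul, mv_mul, mv_refl_fix Q c' h2 hc'u, mv_refl_fix Q c hQc hcu, mv_refl_fix Q c' h2 hc'z, mv_refl] at h
  simpa using (kset Q K u).sub_mem hz h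

omit hK

theorem subring_eq_top {j : Fin t} {c : ι → F} (hc : c ∈ D j) (hQc : Q c ≠ 0) (R : Subring F)
    (hR : ∀ d ∈ D j, Q d ≠ 0 →
      QuadraticMap.polar (⇑Q) c d * QuadraticMap.polar (⇑Q) c d / (Q c * Q d) ∈ R) (x : F) : x ∈ R := by
  classical
  have hinv : ∀ r : F, r ∈ R → r⁻¹ ∈ R := by
    intro r hr
    by_cases hr0 : r = 0
    · rw [hr0, _root_.inv_zero]; exact R.zero_mem
    have h := FiniteField.pow_card_sub_one_eq_one r hr0
    have hq := Fintype.one_lt_card (α := F)
    rw [show Fintype.card F - 1 = (Fintype.card F - 2) + 1 by omega, pow_succ] at h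
    rw [inv_eq_of_mul_eq_one_left h]
    exact R.pow_mem hr _
  rcases T.dim with hk | hk
  · by_cases h2 : (2 : F) = 0
    · have hcc : QuadraticMap.polar (⇑Q) c c = 0 := by rw [polar_self_two, h2, zero_mul]
      obtain ⟨-, y, hy, hcy⟩ := T.nd j c hc (fun e => hQc (by rw [e, QuadraticMap.map_zero]))
      obtain ⟨d₀, hd₀m, hd₀⟩ : ∃ d₀ ∈ D j, QuadraticMap.polar (⇑Q) c d₀ = 1 :=
        ⟨(QuadraticMap.polar (⇑Q) c y)⁻¹ • y, (D j).smul_mem _ hy, by
          rw [QuadraticMap.polar_smul_right, smul_eq_mul, inv_mul_cancel₀ hcy]⟩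
      set N := Q c * Q d₀
      have hmem : ∀ γ : F, γ * γ + γ + N ∈ R := by
        intro γ
        set d := d₀ + (γ / Q c) • c
        have hcd : QuadraticMap.polar (⇑Q) c d = 1 := by
          rw [QuadraticMap.polar_add_right, QuadraticMap.polar_smul_right, hcc, hd₀, smul_zero, add_zero]
        have hQd : Q c * Q d = γ * γ + γ + N := by
          rw [QuadraticMap.map_add (f := Q), QuadraticMap.map_smul, QuadraticMap.polar_smul_right,
            QuadraticMap.polar_comm (⇑Q) d₀ c, hd₀]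
          simp only [N, smul_eq_mul]
          field_simp
          ring
        by_cases hd : Q d = 0
        · rw [← hQd, hd, mul_zero]; exact R.zero_mem
        · have := hinv _ (hR d ((D j).add_mem hd₀m ((D j).smul_mem _ hc)) hd)
          rw [hcd, one_mul, one_div, inv_inv, hQd] at this
          exact this
      have hH : ∀ γ : F, γ * γ + γ ∈ R := fun γ => by
        simpa using R.sub_mem (hmem γ) (hmem 0)
      by_contra hx
      -- two translates of the subfield meet only trivially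
      set S := (Finset.univ : Finset F).filter (fun a => a ∈ R) with hS
      have hinj : Set.InjOn (fun p : F × F => p.1 + x * p.2) ↑(S ×ˢ S) := by
        rintro ⟨a, b⟩ hab ⟨a', b'⟩ hab' e
        simp only [Finset.coe_product, Set.mem_prod, Finset.mem_coe, hS, Finset.mem_filter, Finset.mem_univ,
          true_and] at hab hab'
        simp only at e
        by_cases hb : b = b'
        · subst hb; simpa using e
        · exact absurd (by
            rw [show x = (a' - a) * (b - b')⁻¹ by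
              rw [eq_mul_inv_iff_mul_eq₀ (sub_ne_zero.mpr hb)]; linear_combination e]
            exact R.mul_mem (R.sub_mem hab'.1 hab.1) (hinv _ (R.sub_mem hab.2 hab'.2))) hx
      have h1 : S.card * S.card ≤ Fintype.card F := by
        rw [← Finset.card_product, ← Finset.card_image_of_injOn hinj]
        exact Finset.card_le_univ _
      set H := (Finset.univ : Finset F).image (fun γ => γ * γ + γ) with hHdef
      have hHS : H ⊆ S := fun y hy => by
        obtain ⟨γ, -, rfl⟩ := Finset.mem_image.mp hy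
        simpa [hS] using hH γ
      have hcard : Fintype.card F ≤ 2 * H.card := by
        rw [← Finset.card_univ, hHdef]
        refine Finset.card_le_mul_card_image _ 2 fun y hy => ?_
        obtain ⟨γ, -, rfl⟩ := Finset.mem_image.mp hy
        refine (Finset.card_le_card (t := {γ, γ + 1}) fun δ hδ => ?_).trans Finset.card_le_two
        simp only [Finset.mem_filter, Finset.mem_univ, true_and] at hδ
        simp only [Finset.mem_insert, Finset.mem_singleton]
        have : (δ - γ) * (δ - γ - 1) = 0 := by linear_combination hδ + (γ * γ + γ - δ * γ - δ) * h2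
        rcases mul_eq_zero.mp this with h | h
        · exact Or.inl (sub_eq_zero.mp h)
        · exact Or.inr (by linear_combination h)
      have hle := Finset.card_le_card hHS
      rcases le_or_gt 5 (Fintype.card F) with hq | hq
      · nlinarith
      · have hN : N ∉ H := fun hN => by
          obtain ⟨γ, -, hγ⟩ := Finset.mem_image.mp hN
          have := T.two_plus hk j (d₀ + (γ / Q c) • c) ((D j).add_mem hd₀m ((D j).smul_mem _ hc))
            (fun e => by
              have := congrArg (QuadraticMap.polar (⇑Q) c) e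
              rw [QuadraticMap.polar_add_right, hd₀, QuadraticMap.polar_smul_right, hcc, smul_zero, add_zero,
                QuadraticMap.polar_zero_right] at this
              exact one_ne_zero this) (by
              rw [QuadraticMap.map_add (f := Q), QuadraticMap.map_smul, QuadraticMap.polar_smul_right,
                QuadraticMap.polar_comm (⇑Q) d₀ c, hd₀]
              simp only [N] at hγ
              simp only [smul_eq_mul]
              field_simp
              linear_combination hγ + (Q c * Q d₀) * h2)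
          omega
        have hlt : H.card < S.card := Finset.card_lt_card ⟨hHS, fun h => hN (h (by
          simpa [hS] using hmem 0))⟩
        nlinarith [Fintype.one_lt_card (α := F)]
    · obtain ⟨y, hy, hcy, hQy⟩ := orth_nonsingular (T.nd j) (by rw [T.finrank_eq]; omega) hc
        (by rw [polar_self_two]; exact mul_ne_zero h2 hQc)
      set ν := Q y / Q c
      have h4 : (4 : F) ∈ R := by
        rw [show (4 : F) = 1 + 1 + (1 + 1) by norm_num]
        exact R.add_mem (R.add_mem R.one_mem R.one_mem) (R.add_mem R.one_mem R.one_mem)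
      have hν : ∀ β : F, ν * (β * β) ∈ R := by
        intro β
        set d := c + β • y
        have hQd : Q d = Q c * (1 + ν * (β * β)) := by
          rw [QuadraticMap.map_add (f := Q), QuadraticMap.map_smul, QuadraticMap.polar_smul_right, hcy]
          simp only [ν, smul_eq_mul, smul_zero]
          field_simp
          ring
        have hcd : QuadraticMap.polar (⇑Q) c d = 2 * Q c := by
          rw [QuadraticMap.polar_add_right, QuadraticMap.polar_smul_right, hcy, smul_zero, add_zero, polar_self_two]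
        by_cases hz : 1 + ν * (β * β) = 0
        · rw [show ν * (β * β) = -1 by linear_combination hz]; exact R.neg_mem R.one_mem
        · have := R.mul_mem h4 (hinv _ (hR d ((D j).add_mem hc ((D j).smul_mem _ hy))
            (by rw [hQd]; exact mul_ne_zero hQc hz)))
          rw [hcd, hQd] at this
          rw [show ν * (β * β) = 4 * (2 * Q c * (2 * Q c) / (Q c * (Q c * (1 + ν * (β * β)))))⁻¹ - 1 by
            have : (4 : F) ≠ 0 := by rw [show (4 : F) = 2 * 2 by norm_num]; exact mul_ne_zero h2 h2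
            field_simp
            ring]
          exact R.sub_mem this R.one_mem
      have hν1 : ν ∈ R := by simpa using hν 1
      have hν0 : ν ≠ 0 := div_ne_zero hQy hQc
      obtain ⟨a, b, hab⟩ := binary_universal h2 (a := (1 : F)) (b := (1 : F)) one_ne_zero one_ne_zero x
      have hsq : ∀ β : F, β * β ∈ R := fun β => by
        simpa [← mul_assoc, inv_mul_cancel₀ hν0] using R.mul_mem (hinv ν hν1) (hν β)
      rw [← hab]
      simpa [mul_one, sq] using R.add_mem (hsq a) (hsq b)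
  · by_cases hx : x = 0
    · rw [hx]; exact R.zero_mem
    obtain ⟨d, hd, hcd, hQd⟩ : ∃ d ∈ D j, QuadraticMap.polar (⇑Q) c d = 1 ∧ Q d = (x * Q c)⁻¹ := by
      obtain ⟨d₀, hd₀, hcd₀, hS⟩ : ∃ d₀ ∈ D j, QuadraticMap.polar (⇑Q) c d₀ = 1 ∧
          Cfsg.Geo.IsNondegenerateOn (QuadraticMap.polar (⇑Q)) (Submodule.span F ({c, d₀} : Set (ι → F))) := by
        have hmk : ∀ d₀ : ι → F, QuadraticMap.polar (⇑Q) c d₀ = 1 →
            (d₀ ∈ Submodule.span F {c} ∨ QuadraticMap.polar (⇑Q) c c = 0) →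
            Cfsg.Geo.IsNondegenerateOn (QuadraticMap.polar (⇑Q)) (Submodule.span F ({c, d₀} : Set (ι → F))) := by
          intro d₀ h1 hor w hw hw0
          suffices hs : ∃ z ∈ Submodule.span F ({c, d₀} : Set (ι → F)), QuadraticMap.polar (⇑Q) w z ≠ 0 by
            obtain ⟨z, hz, h⟩ := hs
            exact ⟨⟨z, hz, by rwa [QuadraticMap.polar_comm]⟩, ⟨z, hz, h⟩⟩
          obtain ⟨α, β, rfl⟩ := Submodule.mem_span_pair.mp hw
          by_contra hcon
          push Not at hcon
          have e1 := hcon c (Submodule.subset_span (by simp))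
          have e2 := hcon d₀ (Submodule.subset_span (by simp))
          simp only [QuadraticMap.polar_add_left, QuadraticMap.polar_smul_left, smul_eq_mul,
            QuadraticMap.polar_comm (⇑Q) d₀ c, h1] at e1 e2
          rcases hor with hsp | hcc
          · obtain ⟨r, rfl⟩ := Submodule.mem_span_singleton.mp hsp
            rw [QuadraticMap.polar_smul_right, smul_eq_mul] at h1
            apply hw0
            rw [smul_smul, ← add_smul]
            have : (α + β * r) * QuadraticMap.polar (⇑Q) c c = 0 := by linear_combination e1 + β * h1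
            rw [(mul_eq_zero.mp this).resolve_right (right_ne_zero_of_mul (h1.symm ▸ one_ne_zero)), zero_smul]
          · rw [hcc, mul_zero, zero_add, mul_one] at e1
            rw [e1, zero_mul, add_zero, mul_one] at e2
            simp [e1, e2] at hw0
        by_cases h2 : (2 : F) = 0
        · obtain ⟨-, y, hy, hcy⟩ := T.nd j c hc (fun e => hQc (by rw [e, QuadraticMap.map_zero]))
          have h1 : QuadraticMap.polar (⇑Q) c ((QuadraticMap.polar (⇑Q) c y)⁻¹ • y) = 1 := by
            rw [QuadraticMap.polar_smul_right, smul_eq_mul, inv_mul_cancel₀ hcy]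
          exact ⟨_, (D j).smul_mem _ hy, h1, hmk _ h1 (Or.inr (by rw [polar_self_two, h2, zero_mul]))⟩
        · have h1 : QuadraticMap.polar (⇑Q) c ((2 * Q c)⁻¹ • c) = 1 := by
            rw [QuadraticMap.polar_smul_right, smul_eq_mul, polar_self_two, inv_mul_cancel₀ (mul_ne_zero h2 hQc)]
          exact ⟨_, (D j).smul_mem _ hc, h1,
            hmk _ h1 (Or.inl (Submodule.smul_mem _ _ (Submodule.mem_span_singleton_self c)))⟩
      obtain ⟨hE, hEr⟩ := split_nondeg T.nondeg
        (Submodule.span_le.mpr (by rintro z (rfl | rfl) <;> assumption)) (T.nd j) hS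
      have := finrank_pair_le c d₀
      rw [T.finrank_eq] at hEr
      obtain ⟨z, hz, hQz⟩ := value_in hE (by omega) ((x * Q c)⁻¹ - Q d₀)
      refine ⟨d₀ + z, (D j).add_mem hd₀ hz.1, ?_, ?_⟩
      · rw [QuadraticMap.polar_add_right, hcd₀, (HypQuad.mem_perp Q).mp hz.2 c (Submodule.subset_span (by simp)),
          add_zero]
      · rw [QuadraticMap.map_add (f := Q), hQz,
          (HypQuad.mem_perp Q).mp hz.2 d₀ (Submodule.subset_span (by simp))]
        ring
    have hd0 : Q d ≠ 0 := by rw [hQd]; exact inv_ne_zero (mul_ne_zero hx hQc)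
    have := hR d hd hd0
    rw [hcd, hQd, one_mul] at this
    rwa [show (1 : F) / (Q c * (x * Q c)⁻¹) = x by field_simp] at this

include hK

/-- One component outside the support absorbs its member. -/
theorem absorb {u z : ι → F} {j : Fin t} (hju : T.comp j u = 0)
    (haux : ∀ μ : F, μ ≠ 0 → ∃ l, l ≠ j ∧ ∃ c' ∈ D l, Q c' = μ ∧ QuadraticMap.polar (⇑Q) c' u = 0)
    (hz : z ∈ kset Q K u) (hzj : T.comp j z ≠ 0) : D j ≤ zset Q K u := by
  have hperp : ∀ c ∈ D j, QuadraticMap.polar (⇑Q) c u = 0 := fun c hc => by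
    rw [T.form hc, hju, QuadraticMap.polar_zero_right]
  obtain ⟨v, hv, hv0, hvk⟩ : ∃ v ∈ D j, v ≠ 0 ∧ v ∈ kset Q K u := by
    obtain ⟨m, hm, hfix, hmz, hmne⟩ := T.exists_moving hK (T.comp_mem j z) hzj
    refine ⟨_, (D j).sub_mem hmz (T.comp_mem j z), sub_ne_zero.mpr hmne, ?_⟩
    have h := kset_map hz hm
    rw [hfix u hju] at h
    have h2 := hfix (z - T.comp j z) (by rw [map_sub, T.comp_self (T.comp_mem j z), sub_self])
    rw [Matrix.mulVec_sub] at h2
    rw [show mat Q m *ᵥ T.comp j z - T.comp j z = mat Q m *ᵥ z - z by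
      linear_combination (norm := module) -h2]
    exact (kset Q K u).sub_mem h hz
  have hmove : ∀ c ∈ D j, Q c ≠ 0 → ∀ y ∈ D j, y ∈ kset Q K u →
      ((Q c)⁻¹ * QuadraticMap.polar (⇑Q) c y) • c ∈ kset Q K u := by
    intro c hc hQc y hy hyk
    obtain ⟨l, hlj, c', hc', hQc', hc'u⟩ := haux (Q c) hQc
    exact T.refl_move hK hyk hc hc' hQc hQc' (hperp c hc) hc'u (T.orth hlj hc' hy)
  have hline : ∀ c ∈ D j, Q c = 1 → ∀ y ∈ D j, y ∈ kset Q K u → QuadraticMap.polar (⇑Q) c y ≠ 0 →
      c ∈ zset Q K u := by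
    intro c hc hQc y hy hyk hcy
    have hQc0 : Q c ≠ 0 := hQc ▸ one_ne_zero
    have h0 := hmove c hc hQc0 y hy hyk
    let R : Subring F :=
      { carrier := {r | ∀ s : F, s • c ∈ kset Q K u → (r * s) • c ∈ kset Q K u}
        mul_mem' := fun {a b} ha hb s hs => by rw [mul_assoc]; exact ha _ (hb s hs)
        one_mem' := fun s hs => by rwa [one_mul]
        add_mem' := fun {a b} ha hb s hs => by
          rw [add_mul, add_smul]; exact (kset Q K u).add_mem (ha s hs) (hb s hs)
        zero_mem' := fun s _ => by rw [zero_mul, zero_smul]; exact (kset Q K u).zero_mem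
        neg_mem' := fun {a} ha s hs => by rw [neg_mul, neg_smul]; exact (kset Q K u).neg_mem (ha s hs) }
    have hR : ∀ r : F, r ∈ R := T.subring_eq_top hc hQc0 R fun d hd hQd s hs => by
      have h1 := hmove d hd hQd _ ((D j).smul_mem s hc) hs
      have h2 := hmove c hc hQc0 _ ((D j).smul_mem _ hd) h1
      convert h2 using 2
      simp only [QuadraticMap.polar_smul_right, QuadraticMap.polar_comm (⇑Q) d c, smul_eq_mul]
      field_simp
    refine zset_iff.mpr fun r => ?_
    have := hR (r / ((Q c)⁻¹ * QuadraticMap.polar (⇑Q) c y)) _ h0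
    rwa [div_mul_cancel₀ _ (mul_ne_zero (inv_ne_zero hQc0) hcy)] at this
  obtain ⟨c, hc, hQc, hcv⟩ := T.exists_one_seeing (v := v) (by rwa [T.comp_self hv])
  have hcz := hline c hc hQc v hv hvk hcv
  have hstep : ∀ w ∈ D j, Q w = 1 → ∀ d ∈ D j, d ∈ zset Q K u → QuadraticMap.polar (⇑Q) d w ≠ 0 →
      w ∈ zset Q K u := fun w hw hQw d hd hdz hdw =>
    hline w hw hQw d hd (kset_of_zset hdz) (by rwa [QuadraticMap.polar_comm])
  refine T.span_value j one_ne_zero _ fun d hd hQd => ?_
  by_cases hsp : d ∈ Submodule.span F {c}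
  · obtain ⟨r, rfl⟩ := Submodule.mem_span_singleton.mp hsp
    exact (zset Q K u).smul_mem _ hcz
  by_cases hp : QuadraticMap.polar (⇑Q) c d = 0
  · obtain ⟨e, he, hQe, h1, h2⟩ := T.connect one_ne_zero hc hd hQc hQd hsp hp
    exact hstep d hd hQd e he (hstep e he hQe c hc hcz h1) (by rwa [QuadraticMap.polar_comm])
  · exact hstep d hd hQd c hc hcz hp

/-- The members are linked from one to the other. -/
def Link (Q : QuadraticForm F (ι → F)) (K : Subgroup (Cfsg.isometryGroup F (⇑Q)))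
    (D : Fin t → Submodule F (ι → F)) (l j : Fin t) : Prop :=
  ∀ a ∈ D l, Q a = 0 → D j ≤ zset Q K a

theorem absorb_single (hk : 4 ≤ k) {l j : Fin t} (hlj : l ≠ j) {a z : ι → F} (ha : a ∈ D l) (ha0 : a ≠ 0)
    (hQa : Q a = 0) (hz : z ∈ kset Q K a) (hzj : T.comp j z ≠ 0) : D j ≤ zset Q K a :=
  T.absorb hK (T.comp_ne hlj.symm ha) (fun μ _ => ⟨l, hlj, T.value_perp hk ha ha0 hQa μ⟩) hz hzj

theorem link_of_le (hk : 4 ≤ k) {l j : Fin t} (hlj : l ≠ j) {a : ι → F} (ha : a ∈ D l) (ha0 : a ≠ 0)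
    (hQa : Q a = 0) (h : D j ≤ zset Q K a) : Link Q K D j l := by
  intro b hb hQb y hy
  by_cases hb0 : b = 0
  · subst hb0; exact zset_zero y
  exact T.absorb_single hK hk hlj.symm hb hb0 hQb (kset_of_zset (zset_swap hQa hQb (h hb)))
    (by rwa [T.comp_self ha]) hy

theorem link_map {g g' : Cfsg.isometryGroup F (⇑Q)} (hg : g ∈ K) (hgg : g * g' = 1) {a b a' b' : Fin t}
    (ha : ∀ x ∈ D a', mat Q g' *ᵥ x ∈ D a) (hb : ∀ x ∈ D b', mat Q g' *ᵥ x ∈ D b) (h : Link Q K D a b) :
    Link Q K D a' b' := by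
  intro x hx hQx y hy
  have e : ∀ w, mat Q g *ᵥ (mat Q g' *ᵥ w) = w := fun w => by rw [← mv_mul, hgg, mv_one]
  have := zset_map (h _ (ha x hx) (by rw [Q_act]; exact hQx) (hb y hy)) hg
  rwa [e, e] at this

theorem link_turn {l j r : Fin t} (hlj : l ≠ j) (hrl : r ≠ l) (hrj : r ≠ j) (h : Link Q K D l j) :
    Link Q K D j r ∧ Link Q K D r l := by
  obtain ⟨f₁, hf₁⟩ := T.exists_iso l j
  obtain ⟨f₂, hf₂⟩ := T.exists_iso j r
  obtain ⟨g₁, hg₁, -⟩ := T.exists_swap hlj f₁ hf₁
  obtain ⟨g₂, hg₂, -⟩ := T.exists_swap hrj.symm f₂ hf₂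
  have hm := T.swaps_mem hK hlj hrj.symm hg₁ hg₂
  have hm' := T.swaps_mem hK hrj.symm hlj hg₂ hg₁
  have e : g₁ * g₂ * (g₂ * g₁) = 1 := by rw [mul_assoc, ← mul_assoc g₂ g₂, hg₂.1, one_mul, hg₁.1]
  have e' : g₂ * g₁ * (g₁ * g₂) = 1 := by rw [mul_assoc, ← mul_assoc g₁ g₁, hg₁.1, one_mul, hg₂.1]
  constructor
  · refine T.link_map hK hm e (fun x hx => ?_) (fun x hx => ?_) h
    · rw [mv_mul, hg₂.2.2.2 l hlj hrl.symm _ (hg₁.2.2.1 x hx)]; exact hg₁.2.2.1 x hx
    · rw [mv_mul, hg₁.2.2.2 r hrl hrj x hx]; exact hg₂.2.2.1 x hx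
  · refine T.link_map hK hm' e' (fun x hx => ?_) (fun x hx => ?_) h
    · rw [mv_mul]; exact hg₁.2.2.1 _ (hg₂.2.2.1 x hx)
    · rw [mv_mul, hg₂.2.2.2 l hlj hrl.symm x hx]; exact hg₁.2.1 x hx

theorem inner_root {l : Fin t} {u z : ι → F} (hu : u ∈ D l) (hQu : Q u = 0) (hz : z ∈ D l)
    (huz : QuadraticMap.polar (⇑Q) u z = 0) : z ∈ zset Q K u := by
  refine ⟨huz, fun hu' c hc => hK _ (siegelG_mem_omega Q T.nondeg (by have := T.big; omega) hu' hc) ⟨1, fun m x hx => ?_⟩⟩
  show mat Q _ *ᵥ x ∈ D m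
  rw [mat_siegelG, siegelMap]
  rcases eq_or_ne m l with rfl | hm
  · exact (D m).add_mem ((D m).add_mem hx ((D m).smul_mem _ ((D m).smul_mem _ hz))) ((D m).smul_mem _ hu)
  · rw [QuadraticMap.polar_smul_left, T.orth hm.symm hu hx, T.orth hm.symm hz hx]
    simpa using hx

theorem centre_big (hk : 4 ≤ k) {u z : ι → F} {i i' j : Fin t} (R : Root T K u z i i' j) : u ∈ sCentres Q K := by
  have hii := R.same hk
  have hu : u ∈ D i := by
    rw [← T.sum_comp u, Finset.sum_eq_single i (fun l _ hl => R.supp l hl (hii ▸ hl))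
      (fun h => absurd (Finset.mem_univ i) h)]
    exact T.comp_mem i u
  have hju : j ≠ i := R.ne_left
  have hji : Link Q K D j i :=
    T.link_of_le hK hk hju.symm hu R.ne R.sing (T.absorb_single hK hk hju.symm hu R.ne R.sing R.mem R.comp_ne)
  obtain ⟨b, hb, hb0, hQb⟩ := T.exists_singular_member hk j
  have hij : Link Q K D i j := T.link_of_le hK hk hju hb hb0 hQb (hji b hb hQb)
  have hall : ∀ r, r ≠ i → Link Q K D i r := fun r hr => by
    rcases eq_or_ne r j with rfl | hrj
    · exact hij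
    · exact (T.link_turn hK hju hrj hr hji).1
  refine sCentres_of_zset R.sing fun w hw => ?_
  rw [← T.sum_comp w]
  refine sum_mem fun l _ => ?_
  rcases eq_or_ne l i with rfl | hl
  · exact T.inner_root hK hu R.sing (T.comp_mem l w) (by rwa [← T.form hu])
  · exact hall l hl u hu R.sing (T.comp_mem l w)

theorem centre_plane (hk : k = 2) {u z : ι → F} {i i' j : Fin t} (R : Root T K u z i i' j) : u ∈ sCentres Q K := by
  classical
  have ht := T.seven_le hk
  have hout : ∀ r, r ≠ i → r ≠ i' → ∀ c ∈ D r, QuadraticMap.polar (⇑Q) c u = 0 := fun r h1 h2 c hc => by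
    rw [T.form hc, R.supp r h1 h2, QuadraticMap.polar_zero_right]
  have hbase : ∀ r z', r ≠ i → r ≠ i' → z' ∈ kset Q K u → T.comp r z' ≠ 0 → D r ≤ zset Q K u := by
    intro r z' hri hri' hz' hne
    refine T.absorb hK (R.supp r hri hri') (fun μ _ => ?_) hz' hne
    obtain ⟨p, hp⟩ := T.exists_avoid {i, i', r} (Finset.card_le_three.trans_lt (by omega))
    simp only [Finset.mem_insert, Finset.mem_singleton, not_or] at hp
    obtain ⟨c', hc', hQc'⟩ := T.exists_value p μ
    exact ⟨p, hp.2.2, c', hc', hQc', hout p hp.1 hp.2.1 c' hc'⟩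
  have hothers : ∀ r, r ≠ i → r ≠ i' → D r ≤ zset Q K u := by
    intro r hri hri'
    rcases eq_or_ne r j with rfl | hrj
    · exact hbase r z hri hri' R.mem R.comp_ne
    obtain ⟨p, hp⟩ := T.exists_avoid {i, i', j, r} (Finset.card_le_four.trans_lt (by omega))
    simp only [Finset.mem_insert, Finset.mem_singleton, not_or] at hp
    obtain ⟨p', hp'⟩ : ∃ p', ¬p' = i ∧ ¬p' = i' ∧ ¬p' = j ∧ p' = r ∧ ¬p' = p :=
      ⟨r, hri, hri', hrj, rfl, Ne.symm hp.2.2.2⟩
    obtain ⟨f₁, hf₁⟩ := T.exists_iso j r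
    obtain ⟨f₂, hf₂⟩ := T.exists_iso p p'
    obtain ⟨g₁, hg₁, -⟩ := T.exists_swap hrj.symm f₁ hf₁
    obtain ⟨g₂, hg₂, -⟩ := T.exists_swap (Ne.symm hp'.2.2.2.2) f₂ hf₂
    obtain ⟨σ, hσ⟩ := perms_mul (IsSwap.perms T hg₁) (IsSwap.perms T hg₂)
    have hm := T.swaps_mem hK hrj.symm (Ne.symm hp'.2.2.2.2) hg₁ hg₂
    have hfix : mat Q (g₁ * g₂) *ᵥ u = u := by
      conv_lhs => rw [← T.sum_comp u]
      conv_rhs => rw [← T.sum_comp u]
      rw [Matrix.mulVec_sum]
      refine Finset.sum_congr rfl fun l _ => ?_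
      rcases eq_or_ne l i with rfl | hli
      · rw [mv_mul, hg₂.2.2.2 l (Ne.symm hp.1) (Ne.symm hp'.1) _ (T.comp_mem l u),
          hg₁.2.2.2 l R.ne_left.symm hri.symm _ (T.comp_mem l u)]
      rcases eq_or_ne l i' with rfl | hli'
      · rw [mv_mul, hg₂.2.2.2 l (Ne.symm hp.2.1) (Ne.symm hp'.2.1) _ (T.comp_mem l u),
          hg₁.2.2.2 l R.ne_right.symm hri'.symm _ (T.comp_mem l u)]
      rw [R.supp l hli hli', Matrix.mulVec_zero]
    have hk' := kset_map R.mem hm
    rw [hfix] at hk'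
    refine hbase r _ hri hri' hk' ?_
    have hmj : mat Q (g₁ * g₂) *ᵥ T.comp j z ∈ D r := by
      rw [mv_mul, hg₂.2.2.2 j (Ne.symm hp.2.2.1) (Ne.symm hp'.2.2.1) _ (T.comp_mem j z)]
      exact hg₁.2.1 _ (T.comp_mem j z)
    have hne : mat Q (g₁ * g₂) *ᵥ T.comp j z ≠ 0 := fun e =>
      R.comp_ne (mv_injective Q (g₁ * g₂) (e.trans (Matrix.mulVec_zero _).symm))
    have hσj : σ j = r := by
      by_contra hne'
      exact hne (by rw [← T.comp_self hmj, T.comp_ne (Ne.symm hne') (hσ j _ (T.comp_mem j z))])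
    rw [← hσj, T.comp_perm hσ]
    exact hne
  refine sCentres_of_zset R.sing fun w hw => ?_
  set y := w - ∑ l ∈ Finset.univ \ {i, i'}, T.comp l w with hy
  have hrest : ∑ l ∈ Finset.univ \ {i, i'}, T.comp l w ∈ zset Q K u := sum_mem fun l hl => by
    simp only [Finset.mem_sdiff, Finset.mem_univ, Finset.mem_insert, Finset.mem_singleton, true_and, not_or] at hl
    exact hothers l hl.1 hl.2 (T.comp_mem l w)
  suffices hyu : y ∈ zset Q K u by simpa [hy] using add_mem hyu hrest
  have huy : QuadraticMap.polar (⇑Q) u y = 0 := by rw [hy, QuadraticMap.polar_sub_right, hw, hrest.1, sub_zero]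
  have hy2 : y = ∑ l ∈ ({i, i'} : Finset (Fin t)), T.comp l w := by
    rw [hy]
    nth_rewrite 1 [← T.sum_comp w]
    rw [sub_eq_iff_eq_add, add_comm, Finset.sum_sdiff (Finset.subset_univ _)]
  rcases eq_or_ne i' i with hii | hii
  · have hu : u ∈ D i := by
      rw [← T.sum_comp u, Finset.sum_eq_single i (fun l _ hl => R.supp l hl (hii ▸ hl))
        (fun h => absurd (Finset.mem_univ i) h)]
      exact T.comp_mem i u
    have hyi : y ∈ D i := by rw [hy2, hii]; simpa using T.comp_mem i w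
    obtain ⟨r, hr⟩ := Submodule.mem_span_singleton.mp
      (T.mem_span_of_perp hk hu R.ne (perp_self Q R.sing) hyi huy)
    rw [← hr]
    exact (zset Q K u).smul_mem _ (Refl.zset_self R.sing)
  · obtain ⟨a, ha⟩ := T.exists_avoid {i, i'} (Finset.card_le_two.trans_lt (by omega))
    simp only [Finset.mem_insert, Finset.mem_singleton, not_or] at ha
    obtain ⟨b, hb⟩ := T.exists_avoid {i, i', a} (Finset.card_le_three.trans_lt (by omega))
    simp only [Finset.mem_insert, Finset.mem_singleton, not_or] at hb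
    obtain ⟨f₁, hf₁⟩ := T.exists_iso i a
    obtain ⟨f₂, hf₂⟩ := T.exists_iso i' b
    obtain ⟨g₁, hg₁, -⟩ := T.exists_swap (Ne.symm ha.1) f₁ hf₁
    obtain ⟨g₂, hg₂, -⟩ := T.exists_swap (Ne.symm hb.2.1) f₂ hf₂
    have hm := T.swaps_mem hK (Ne.symm ha.1) (Ne.symm hb.2.1) hg₁ hg₂
    set u' := mat Q (g₁ * g₂) *ᵥ u with hu'
    have hma : ∀ x ∈ D a, mat Q (g₁ * g₂) *ᵥ x ∈ D i := fun x hx => by
      rw [mv_mul, hg₂.2.2.2 a ha.2 (Ne.symm hb.2.2) x hx]; exact hg₁.2.2.1 x hx
    have hmb : ∀ x ∈ D b, mat Q (g₁ * g₂) *ᵥ x ∈ D i' := fun x hx => by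
      rw [mv_mul, hg₁.2.2.2 i' hii (Ne.symm ha.2) _ (hg₂.2.2.1 x hx)]; exact hg₂.2.2.1 x hx
    have hpull : ∀ (r s : Fin t), (∀ x ∈ D r, mat Q (g₁ * g₂) *ᵥ x ∈ D s) → D r ≤ zset Q K u →
        D s ≤ zset Q K u' := by
      intro r s hrs hle v hv
      have heq : (D r).map (Matrix.toLin' (mat Q (g₁ * g₂))) = D s :=
        Submodule.eq_of_le_of_finrank_le (by rintro _ ⟨x, hx, rfl⟩; exact hrs x hx) (by
          rw [show Module.finrank F ((D r).map (Matrix.toLin' (mat Q (g₁ * g₂)))) = Module.finrank F (D r) from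
            LinearEquiv.finrank_map_eq (Matrix.toLinearEquiv' (mat Q (g₁ * g₂))
              ((g₁ * g₂ : Cfsg.isometryGroup F (⇑Q)) : GL ι F).invertible) (D r), T.finrank_eq, T.finrank_eq])
      rw [← heq] at hv
      obtain ⟨x, hx, rfl⟩ := hv
      exact zset_map (hle hx) hm
    have hyu' : y ∈ zset Q K u' := by
      rw [hy2, Finset.sum_pair hii.symm]
      exact add_mem (hpull a i hma (hothers a ha.1 ha.2) (T.comp_mem i w))
        (hpull b i' hmb (hothers b hb.1 hb.2.1) (T.comp_mem i' w))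
    have hu'sum : u' = mat Q (g₁ * g₂) *ᵥ T.comp i u + mat Q (g₁ * g₂) *ᵥ T.comp i' u := by
      rw [← Matrix.mulVec_add, T.pair_split hii.symm R.supp]
    have hui : mat Q (g₁ * g₂) *ᵥ T.comp i u ∈ D a := by
      rw [mv_mul, hg₂.2.2.2 i hii.symm (Ne.symm hb.1) _ (T.comp_mem i u)]; exact hg₁.2.1 _ (T.comp_mem i u)
    have hui' : mat Q (g₁ * g₂) *ᵥ T.comp i' u ∈ D b := by
      rw [mv_mul, hg₁.2.2.2 b hb.1 hb.2.2 _ (hg₂.2.1 _ (T.comp_mem i' u))]; exact hg₂.2.1 _ (T.comp_mem i' u)
    have hu'z : u' ∈ zset Q K u := by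
      rw [hu'sum]; exact add_mem (hothers a ha.1 ha.2 hui) (hothers b hb.1 hb.2.1 hui')
    have hQu' : Q u' = 0 := by rw [hu', Q_act]; exact R.sing
    have hg := hyu'.2 hQu' 1 (by rw [one_smul]; exact hyu'.1)
    have hgu : mat Q (siegelG Q hQu' (show QuadraticMap.polar (⇑Q) u' ((1 : F) • y) = 0 by
        rw [one_smul]; exact hyu'.1)) *ᵥ u = u := by
      rw [mat_siegelG, siegelMap, one_smul, QuadraticMap.polar_comm (⇑Q) u' u, hu'z.1,
        QuadraticMap.polar_comm (⇑Q) y u, huy]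
      simp
    obtain ⟨v, hv, huv⟩ : ∃ v, (v ∈ D a ∨ v ∈ D b) ∧ QuadraticMap.polar (⇑Q) u' v ≠ 0 := by
      have hu'0 : u' ≠ 0 := fun e => R.ne (mv_injective Q (g₁ * g₂) (e.trans (Matrix.mulVec_zero _).symm))
      obtain ⟨l, hl⟩ := T.exists_comp hu'0
      obtain ⟨v, hv, hvu⟩ := T.see_member hl
      refine ⟨v, ?_, by rwa [QuadraticMap.polar_comm]⟩
      rcases eq_or_ne l a with rfl | hla
      · exact Or.inl hv
      rcases eq_or_ne l b with rfl | hlb
      · exact Or.inr hv
      exact absurd (by rw [hu'sum, map_add, T.comp_ne hla hui, T.comp_ne hlb hui', add_zero]) hl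
    have hvz : v ∈ zset Q K u := hv.elim (fun h => hothers a ha.1 ha.2 h) (fun h => hothers b hb.1 hb.2.1 h)
    have h := zset_map hvz hg
    rw [hgu, mat_siegelG] at h
    simp only [siegelMap, one_smul] at h
    have h1 := sub_mem (sub_mem h hvz) ((zset Q K u).smul_mem
      (-QuadraticMap.polar (⇑Q) y v - Q y * QuadraticMap.polar (⇑Q) u' v) hu'z)
    rw [add_sub_right_comm, add_sub_cancel_right, add_sub_cancel_left, Submodule.smul_mem_iff _ huv] at h1
    exact h1

/-- A root element gives `Ω`. -/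
theorem omega_le_of_root {u z : ι → F} {i i' j : Fin t} (R : Root T K u z i i' j) :
    Cfsg.Omega F (⇑Q) ≤ K := by
  classical
  have hu : u ∈ sCentres Q K := by
    rcases T.dim with hk | hk
    · exact T.centre_plane hK hk R
    · exact T.centre_big hK hk R
  obtain ⟨l, hl⟩ := T.exists_comp R.ne
  obtain ⟨p, hpi, hpi'⟩ : ∃ p, p ≠ i ∧ p ≠ i' := ⟨j, R.ne_left, R.ne_right⟩
  obtain ⟨c, hc, hQc, hcu⟩ := T.exists_one_seeing hl
  obtain ⟨c', hc', hQc'⟩ := T.exists_value p 1
  have h1 : Q c ≠ 0 := by rw [hQc]; exact one_ne_zero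
  have h2 : Q c' ≠ 0 := by rw [hQc']; exact one_ne_zero
  refine omega_le_of_two T.nondeg (by have := T.big; omega) hu
    (sCentres_map hu (T.pair_mem hK hc hc' h1 h2 (hQc.trans hQc'.symm))) ?_
  rw [mv_mul, mv_refl_fix Q c' h2 (by rw [T.form hc', R.supp p hpi hpi', QuadraticMap.polar_zero_right]),
    mv_refl, hQc, QuadraticMap.polar_sub_right, QuadraticMap.polar_smul_right, perp_self Q R.sing,
    QuadraticMap.polar_comm (⇑Q) u c]
  simpa using hcu

end K

end GSplit

end Cfsg.Lib.Classical.DecompGen
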